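import Mathlib.Algebra.Homology.Embedding.Extend
import Mathlib.Algebra.Homology.Additive

/-!
# Additive functors commute with the extension of complexes by zero
-/

set_option autoImplicit false
set_option backward.isDefEq.respectTransparency false
set_option backward.defeqAttrib.useBackward true

universe v v' u u'

open CategoryTheory CategoryTheory.Limits

namespace Groth.Agent.SpecSeq

variable {A : Type u} [Category.{v} A] [Preadditive A] [HasZeroObject A]
  {B : Type u'} [Category.{v'} B] [Preadditive B] [HasZeroObject B] (F : A ⥤ B) [F.Additive]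
  {ι ι' : Type*} {c : ComplexShape ι} {c' : ComplexShape ι'}

open Classical in
/-- The components of the comparison. -/
noncomputable def mapExtendXIso (K : HomologicalComplex A c) (e : c.Embedding c') (n : ι') :
    F.obj ((K.extend e).X n) ≅ (((F.mapHomologicalComplex c).obj K).extend e).X n :=
  if h : ∃ k, e.f k = n then
    F.mapIso (K.extendXIso e h.choose_spec) ≪≫
      (((F.mapHomologicalComplex c).obj K).extendXIso e h.choose_spec).symm
  else
    (F.map_isZero (K.isZero_extend_X e n (fun k hk => h ⟨k, hk⟩))).iso
      (HomologicalComplex.isZero_extend_X _ e n (fun k hk => h ⟨k, hk⟩))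

lemma mapExtendXIso_eq (K : HomologicalComplex A c) (e : c.Embedding c') {n : ι'} {k : ι}
    (hk : e.f k = n) : mapExtendXIso F K e n = F.mapIso (K.extendXIso e hk) ≪≫
      (((F.mapHomologicalComplex c).obj K).extendXIso e hk).symm := by
  have h : ∃ j, e.f j = n := ⟨k, hk⟩
  rw [mapExtendXIso, dif_pos h]
  generalize hj : h.choose_spec = hj'
  revert hj'
  obtain rfl : k = h.choose := e.injective_f (hk.trans h.choose_spec.symm)
  intro _ _
  rfl

/-- An additive functor commutes with the extension by zero. -/
noncomputable def mapExtendIso (K : HomologicalComplex A c) (e : c.Embedding c') :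
    (F.mapHomologicalComplex c').obj (K.extend e) ≅ ((F.mapHomologicalComplex c).obj K).extend e :=
  HomologicalComplex.Hom.isoOfComponents (mapExtendXIso F K e) (fun n m _ => by
    by_cases hn : ∃ k, e.f k = n
    · obtain ⟨k, hk⟩ := hn
      by_cases hm : ∃ l, e.f l = m
      · obtain ⟨l, hl⟩ := hm
        rw [mapExtendXIso_eq F K e hk, mapExtendXIso_eq F K e hl,
          HomologicalComplex.extend_d_eq _ e hk hl]
        dsimp
        rw [K.extend_d_eq e hk hl]
        simp only [Functor.map_comp, Category.assoc, Iso.inv_hom_id_assoc]
        rw [← F.map_comp_assoc (K.extendXIso e hl).inv, Iso.inv_hom_id, F.map_id, Category.id_comp]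
      · exact (HomologicalComplex.isZero_extend_X _ e m (fun l hl => hm ⟨l, hl⟩)).eq_of_tgt _ _
    · exact (F.map_isZero (K.isZero_extend_X e n (fun k hk => hn ⟨k, hk⟩))).eq_of_src _ _)

end Groth.Agent.SpecSeq
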