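import Groth.Agent.SpecSeq.Grothendieck
import Groth.Agent.SiteCoh.Leray

/-!
# Instances of the Grothendieck spectral sequence for cohomology on sites
-/

set_option autoImplicit false

universe v u₁ u

open CategoryTheory CategoryTheory.Limits Opposite

namespace Groth.Agent.SpecSeq

lemma isZero_rightDerived_injective {A : Type u₁} [Category.{v} A] [Abelian A]
    [HasInjectiveResolutions A] {B : Type u} [Category.{v} B] [Abelian B] (S : A ⥤ B) [S.Additive]
    (Q : A) [Injective Q] {q : ℕ} (hq : 0 < q) : IsZero ((S.rightDerived q).obj Q) := by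
  obtain ⟨k, rfl⟩ : ∃ k, q = k + 1 := ⟨q - 1, by omega⟩
  exact Functor.isZero_rightDerived_obj_injective_succ S k Q

/-- The `if` used in the statements, in the first quadrant. -/
lemma nonempty_iso_if {B : Type u₁} [Category.{v} B] {P : Prop} [Decidable P] (h : P) {a b c : B}
    (e : a ≅ b) : Nonempty (a ≅ if P then b else c) :=
  ⟨e ≪≫ eqToIso (if_pos h).symm⟩

lemma isZero_if {B : Type u₁} [Category.{v} B] [HasZeroMorphisms B] {P : Prop} [Decidable P]
    (h : ¬ P) {b c : B} (hc : IsZero c) : IsZero (if P then b else c) := by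
  rwa [if_neg h]

variable {C : Type u} [SmallCategory C] (J : GrothendieckTopology C)

/-- Sections over an object. -/
noncomputable abbrev sectionsFunctor (V : C) : Sheaf J AddCommGrpCat.{u} ⥤ AddCommGrpCat.{u} :=
  sheafToPresheaf J AddCommGrpCat.{u} ⋙ (evaluation Cᵒᵖ AddCommGrpCat.{u}).obj (op V)

/-- `R^n Γ(V, -) = H^n(V, -)`. -/
noncomputable def sectionsFunctorDerivedIso (V : C) (n : ℕ) (F : Sheaf J AddCommGrpCat.{u}) :
    ((sectionsFunctor J V).rightDerived n).obj F ≅ AddCommGrpCat.of (CohSite.HU F n V) :=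
  (SiteCoh.rightDerivedCompExactIso (sheafToPresheaf J AddCommGrpCat.{u})
    ((evaluation Cᵒᵖ AddCommGrpCat.{u}).obj (op V)) n).app F ≪≫
    ((SiteCoh.sectionsDerivedIso J n).app F).app (op V)

end Groth.Agent.SpecSeq
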