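import Groth.Agent.SpecSeq.RightDerivedPlus

/-!
# The Grothendieck spectral sequence of a composite functor
-/

set_option autoImplicit false
set_option backward.isDefEq.respectTransparency false
set_option backward.defeqAttrib.useBackward true

universe v v' v'' u u' u''

open CategoryTheory CategoryTheory.Limits DerivedCategory

namespace Groth.Agent.SpecSeq

lemma enoughInjectives_of_hasInjectiveResolutions (C : Type u) [Category.{v} C] [Abelian C]
    [HasInjectiveResolutions C] : EnoughInjectives C where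
  presentation X := ⟨{
    J := (injectiveResolution X).cocomplex.X 0
    f := (injectiveResolution X).ι.f 0 }⟩

variable {C : Type u} [Category.{v} C] [Abelian C] [HasInjectiveResolutions C]
  {C' : Type u'} [Category.{v'} C'] [Abelian C'] [HasInjectiveResolutions C']
  {C'' : Type u''} [Category.{v''} C''] [Abelian C'']

/-- The Grothendieck spectral sequence; abutment and second page are given up to isomorphism. -/
theorem exists_composite (T : C ⥤ C') [T.Additive] (S : C' ⥤ C'') [S.Additive]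
    [PreservesFiniteLimits S]
    (hT : ∀ Q : C, Injective Q → ∀ q : ℕ, 0 < q → IsZero ((S.rightDerived q).obj (T.obj Q)))
    (A : C) {H : ℤ → C''} {X : ℤ → ℤ → C''}
    (eH : ∀ n : ℕ, Nonempty (((T ⋙ S).rightDerived n).obj A ≅ H n))
    (zH : ∀ n : ℤ, n < 0 → IsZero (H n))
    (eX : ∀ p q : ℕ, Nonempty ((S.rightDerived p).obj ((T.rightDerived q).obj A) ≅ X p q))
    (zX : ∀ p q : ℤ, ¬ (0 ≤ p ∧ 0 ≤ q) → IsZero (X p q)) :
    ∃ (E : E₂CohomologicalSpectralSequence C'') (a : SpSeq.Abutment E H),
      (∀ n, a.IsFinite n) ∧ SpSeq.IsBounded E ∧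
      ∀ p q : ℤ, Nonempty ((E.page 2 le_rfl).X (p, q) ≅ X p q) := by
  let _ := HasDerivedCategory.standard C'
  let _ := HasDerivedCategory.standard C''
  have := enoughInjectives_of_hasInjectiveResolutions C'
  let R := injectiveResolution A
  let K : CochainComplex.Plus C' :=
    ⟨(T.mapHomologicalComplex (ComplexShape.up ℤ)).obj R.cochainComplex, 0, inferInstance⟩
  let Y := DerivedCategory.Plus.Q.obj K
  have hY : Y.IsGE 0 := by
    rw [← DerivedCategory.Plus.isGE_ι_obj_iff]
    have : K.obj.IsStrictlyGE 0 := inferInstanceAs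
      (CochainComplex.IsStrictlyGE ((T.mapHomologicalComplex (ComplexShape.up ℤ)).obj R.cochainComplex) 0)
    have h : (DerivedCategory.Q.obj K.obj).IsGE 0 := inferInstance
    exact DerivedCategory.TStructure.t.isGE_of_iso
      ((DerivedCategory.quotientCompQhIso C').app K.obj).symm 0
  have hK : ∀ i, RAcyclic S (K.obj.X i) := fun i => by
    rw [rAcyclic_iff]
    intro q hq
    exact hT _ inferInstance q hq
  have eT : ∀ q : ℕ, Nonempty ((DerivedCategory.Plus.homologyFunctor C' q).obj Y ≅
      (T.rightDerived q).obj A) := fun q =>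
    ⟨(DerivedCategory.homologyFunctor C' q).mapIso ((DerivedCategory.quotientCompQhIso C').app K.obj) ≪≫
      (DerivedCategory.homologyFunctorFactors C' q).app _ ≪≫
      (HomologicalComplex.homologyFunctor C' _ (q : ℤ)).mapIso
        (mapExtendIso T R.cocomplex ComplexShape.embeddingUpNat) ≪≫
      ((T.mapHomologicalComplex _).obj R.cocomplex).extendHomologyIso ComplexShape.embeddingUpNat rfl ≪≫
      (R.isoRightDerivedObj T q).symm⟩
  refine exists_spectralSequence DerivedCategory.Plus.TStructure.t (rdH S) (isLeftBounded_rdH S) Y 0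
    (H := H) (fun n => ?_) (X := X) (fun p q => ?_)
  · by_cases hn : 0 ≤ n
    · obtain ⟨k, rfl⟩ := Int.eq_ofNat_of_zero_le hn
      obtain ⟨e⟩ := nonempty_rdHn_acyclic K hK (k : ℤ)
      obtain ⟨e'⟩ := eH k
      exact ⟨e ≪≫ (HomologicalComplex.homologyFunctor C'' _ (k : ℤ)).mapIso
          (mapExtendIso (T ⋙ S) R.cocomplex ComplexShape.embeddingUpNat) ≪≫
        (((T ⋙ S).mapHomologicalComplex _).obj R.cocomplex).extendHomologyIso
          ComplexShape.embeddingUpNat rfl ≪≫
        (R.isoRightDerivedObj (T ⋙ S) k).symm ≪≫ e'⟩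
    · exact ⟨(isLeftBounded_rdH S Y 0 n (by lia)).iso (zH n (by lia))⟩
  · obtain ⟨e⟩ := nonempty_piece_iso_single Y q
    by_cases h : 0 ≤ p ∧ 0 ≤ q
    · obtain ⟨⟨a, rfl⟩, ⟨b, rfl⟩⟩ :=
        And.intro (Int.eq_ofNat_of_zero_le h.1) (Int.eq_ofNat_of_zero_le h.2)
      obtain ⟨e₁⟩ := nonempty_rdHn_single S ((a : ℤ) + b) (b : ℤ) a rfl
        ((DerivedCategory.Plus.homologyFunctor C' (b : ℤ)).obj Y)
      obtain ⟨e₂⟩ := eT b
      obtain ⟨e₃⟩ := eX a b
      exact ⟨((rdH S).shift _).mapIso e ≪≫ e₁ ≪≫ (S.rightDerived a).mapIso e₂ ≪≫ e₃⟩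
    · refine ⟨((rdH S).shift _).mapIso e ≪≫
        rdHnSingleIso S (p + q) q p rfl _ ≪≫ IsZero.iso ?_ (zX p q h)⟩
      by_cases hq : 0 ≤ q
      · exact isZero_rdSingle_of_neg S _ p (by lia)
      · exact Functor.map_isZero _ (Functor.map_isZero _
          (DerivedCategory.Plus.isZero_homology_of_isGE Y 0 q (by lia)))

end Groth.Agent.SpecSeq
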