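import Mathlib.Algebra.Homology.SpectralObject.Basic
import Mathlib.CategoryTheory.Triangulated.SpectralObject
import Mathlib.CategoryTheory.Triangulated.HomologicalFunctor

/-!
# The spectral object in an abelian category obtained by applying a homological functor
-/

set_option autoImplicit false

universe v v' v'' u u' u''

open CategoryTheory CategoryTheory.Limits CategoryTheory.ComposableArrows CategoryTheory.Pretriangulated

namespace Groth.Agent.SpecSeq

variable {T : Type u} [Category.{v} T] [HasZeroObject T] [HasShift T ℤ] [Preadditive T]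
  [∀ (n : ℤ), (shiftFunctor T n).Additive] [Pretriangulated T]
  {C : Type u'} [Category.{v'} C] [Abelian C] {ι : Type u''} [Category.{v''} ι]
  (Φ : T ⥤ C) [Φ.ShiftSequence ℤ] [Φ.IsHomological]

/-- The spectral object `H^n(f) := Φ^n(ω₁(f))`. -/
noncomputable def mapHomological (X : Triangulated.SpectralObject T ι) :
    Abelian.SpectralObject C ι where
  H n := X.ω₁ ⋙ Φ.shift n
  δ' n₀ n₁ h :=
    { app := fun D => Φ.shiftMap (X.δ'.app D) n₀ n₁ (by lia)
      naturality := fun D₁ D₂ φ => by
        have := X.δ'.naturality φ
        dsimp at this ⊢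
        rw [← Functor.shiftMap_comp', this, Functor.shiftMap_comp] }
  exact₁' n₀ n₁ h D :=
    (Φ.homologySequence_exact₁ _ (X.distinguished' D) n₀ n₁ h).exact_toComposableArrows
  exact₂' n D := (Φ.homologySequence_exact₂ _ (X.distinguished' D) n).exact_toComposableArrows
  exact₃' n₀ n₁ h D :=
    (Φ.homologySequence_exact₃ _ (X.distinguished' D) n₀ n₁ h).exact_toComposableArrows

end Groth.Agent.SpecSeq
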