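import Groth.Agent.SpecSeq.Abutment
import Groth.Agent.SpecSeq.Homological
import Mathlib.CategoryTheory.Triangulated.TStructure.SpectralObject
import Mathlib.Algebra.Homology.DerivedCategory.Plus
import Mathlib.Algebra.Homology.DerivedCategory.FullyFaithful

/-!
# The spectral sequence of the canonical truncations of an object
-/

set_option autoImplicit false
set_option backward.isDefEq.respectTransparency false
set_option backward.defeqAttrib.useBackward true

universe w v v' u u'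

open CategoryTheory CategoryTheory.Limits CategoryTheory.ComposableArrows CategoryTheory.Pretriangulated
open CategoryTheory.Triangulated CategoryTheory.Abelian.SpectralObject

namespace Groth.Agent.SpecSeq

variable {T : Type u} [Category.{v} T] [HasZeroObject T] [HasShift T ℤ] [Preadditive T]
  [∀ (n : ℤ), (shiftFunctor T n).Additive] [Pretriangulated T] [IsTriangulated T]
  {C : Type u'} [Category.{v'} C] [Abelian C]
  (t : TStructure T) (Φ : T ⥤ C) [Φ.ShiftSequence ℤ] [Φ.IsHomological]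

/-- A homological functor which respects lower bounds. -/
def IsLeftBounded : Prop :=
  ∀ (W : T) (m n : ℤ) [t.IsGE W m], n < m → IsZero ((Φ.shift n).obj W)

/-- The spectral object `H^n(i ≤ j) = Φ^n(τ_{≥ i} τ_{< j} Y)`. -/
noncomputable abbrev ofTStructure (Y : T) : Abelian.SpectralObject C EInt :=
  mapHomological Φ (t.spectralObject Y)

lemma isFiniteFiltered_ofTStructure (hΦ : IsLeftBounded t Φ) (Y : T) (m : ℤ) [t.IsGE Y m] :
    IsFiniteFiltered (ofTStructure t Φ Y) where
  low n := ⟨m, fun i j hij hj => by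
    refine Functor.map_isZero (Φ.shift n) ?_
    exact Functor.map_isZero (t.eTruncGE.obj i) (t.isZero_eTruncLT_obj_obj Y m j hj)⟩
  high n := ⟨n + 1, fun i j hij hi => by
    have := t.isGE_eTruncGE_obj_obj (n + 1) i hi ((t.eTruncLT.obj j).obj Y)
    exact hΦ ((t.eTruncGE.obj i).obj ((t.eTruncLT.obj j).obj Y)) (n + 1) n (by lia)⟩

/-- The graded pieces. -/
noncomputable abbrev piece (Y : T) (q : ℤ) : T :=
  (t.truncGE q).obj ((t.truncLT (q + 1)).obj Y)

/-- The second page. -/
noncomputable def pageTwoIso (Y : T) (p q : ℤ) :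
    ((ofTStructure t Φ Y).E₂SpectralSequence.page 2 le_rfl).X (p, q) ≅
      (Φ.shift (p + q)).obj (piece t Y q) :=
  (ofTStructure t Φ Y).spectralSequenceFirstPageXIso coreE₂Cohomological (p, q)
    (WithBotTop.coe q) (WithBotTop.coe (q + 1)) rfl rfl (p + q) rfl

theorem exists_spectralSequence (hΦ : IsLeftBounded t Φ) (Y : T) (m : ℤ) [t.IsGE Y m]
    {H : ℤ → C} (e : ∀ n, Nonempty ((Φ.shift n).obj Y ≅ H n)) {X : ℤ → ℤ → C}
    (f : ∀ p q, Nonempty ((Φ.shift (p + q)).obj (piece t Y q) ≅ X p q)) :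
    ∃ (E : E₂CohomologicalSpectralSequence C) (a : SpSeq.Abutment E H),
      (∀ n, a.IsFinite n) ∧ SpSeq.IsBounded E ∧
      ∀ p q : ℤ, Nonempty ((E.page 2 le_rfl).X (p, q) ≅ X p q) := by
  obtain ⟨a, ha⟩ := exists_abutment (isFiniteFiltered_ofTStructure t Φ hΦ Y m)
    isExhaustiveData_coreE₂ (H := H) (fun n => (e n).some)
  exact ⟨_, a, ha, isBounded (isFiniteFiltered_ofTStructure t Φ hΦ Y m) isExhaustiveData_coreE₂,
    fun p q => ⟨pageTwoIso t Φ Y p q ≪≫ (f p q).some⟩⟩

section DerivedPlus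

variable {A : Type u} [Category.{v} A] [Abelian A] [HasDerivedCategory.{w} A]

open DerivedCategory DerivedCategory.Plus.TStructure

local notation "h₀" => DerivedCategory.Plus.homologyFunctor A 0

/-- The homology spectral object of `Y`. -/
noncomputable abbrev homologyObject (Y : DerivedCategory.Plus A) :
    Abelian.SpectralObject A EInt :=
  ofTStructure Plus.TStructure.t h₀ Y

lemma isZero_shift_homology_of_isGE (W : DerivedCategory.Plus A) (m n : ℤ) [W.IsGE m] (h : n < m) :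
    IsZero (((h₀).shift n).obj W) :=
  DerivedCategory.Plus.isZero_homology_of_isGE W m n h

lemma isZero_shift_homology_of_isLE (W : DerivedCategory.Plus A) (m n : ℤ) [W.IsLE m] (h : m < n) :
    IsZero (((h₀).shift n).obj W) :=
  DerivedCategory.Plus.isZero_homology_of_isLE W m n h

lemma nonempty_homology_piece_iso (Y : DerivedCategory.Plus A) (q : ℤ) :
    Nonempty ((Plus.homologyFunctor A q).obj (piece Plus.TStructure.t Y q) ≅
      (Plus.homologyFunctor A q).obj Y) := by
  let X := homologyObject Y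
  have hlo : ∀ n : ℤ, q ≤ n →
      IsZero ((X.H n).obj (mk₁ (homOfLE (bot_le : (⊥ : EInt) ≤ (q : EInt))))) := by
    intro n hn
    have : ((Plus.TStructure.t.eTruncLT.obj (q : EInt)).obj Y).IsLE (q - 1) :=
      Plus.TStructure.t.isLE_eTruncLT_obj_obj (q - 1) _ (by simp) Y
    exact isZero_shift_homology_of_isLE ((Plus.TStructure.t.eTruncLT.obj (q : EInt)).obj Y) (q - 1) n
      (by lia)
  have hhi : ∀ n : ℤ, n ≤ q →
      IsZero ((X.H n).obj (mk₁ (homOfLE (le_top : ((q + 1 : ℤ) : EInt) ≤ ⊤)))) := by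
    intro n hn
    have : ((Plus.TStructure.t.eTruncGE.obj ((q + 1 : ℤ) : EInt)).obj Y).IsGE (q + 1) :=
      Plus.TStructure.t.isGE_eTruncGE_obj_obj (q + 1) _ (by simp) Y
    exact isZero_shift_homology_of_isGE
      ((Plus.TStructure.t.eTruncGE.obj ((q + 1 : ℤ) : EInt)).obj Y) (q + 1) n (by lia)
  have h₁ := X.isIso_H_map_twoδ₁Toδ₀' q (q + 1) rfl ⊥ (q : EInt) ((q + 1 : ℤ) : EInt) bot_le
    (WithBotTop.coe_le_coe.2 (by lia)) (hlo q le_rfl) (hlo (q + 1) (by lia))
  have h₂ : IsIso ((X.H q).map (twoδ₂Toδ₁ (homOfLE (bot_le : (⊥ : EInt) ≤ ((q + 1 : ℤ) : EInt)))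
      (homOfLE le_top) (homOfLE (bot_le : (⊥ : EInt) ≤ ⊤)) rfl)) := by
    have : Mono ((X.H q).map (twoδ₂Toδ₁ (homOfLE (bot_le : (⊥ : EInt) ≤ ((q + 1 : ℤ) : EInt)))
        (homOfLE le_top) (homOfLE (bot_le : (⊥ : EInt) ≤ ⊤)) rfl)) :=
      (X.exact₁ _ _ _ rfl (q - 1) q).mono_g ((hhi (q - 1) (by lia)).eq_of_src _ _)
    have : Epi ((X.H q).map (twoδ₂Toδ₁ (homOfLE (bot_le : (⊥ : EInt) ≤ ((q + 1 : ℤ) : EInt)))
        (homOfLE le_top) (homOfLE (bot_le : (⊥ : EInt) ≤ ⊤)) rfl)) :=
      (X.exact₂ _ _ _ rfl q).epi_f ((hhi q le_rfl).eq_of_tgt _ _)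
    exact isIso_of_mono_of_epi _
  exact ⟨(@asIso _ _ _ _ _ h₁).symm ≪≫ @asIso _ _ _ _ _ h₂⟩

/-- A graded piece is a single object. -/
lemma nonempty_piece_iso_single (Y : DerivedCategory.Plus A) (q : ℤ) :
    Nonempty (piece Plus.TStructure.t Y q ≅
      (Plus.singleFunctor A q).obj ((Plus.homologyFunctor A q).obj Y)) := by
  set W := piece Plus.TStructure.t Y q with hW
  have h₁ : W.IsGE q := by rw [hW]; infer_instance
  have h₂ : W.IsLE q := by
    have : ((Plus.TStructure.t.truncLT (q + 1)).obj Y).IsLE q :=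
      Plus.TStructure.t.isLE_eTruncLT_obj_obj q ((q + 1 : ℤ) : EInt) le_rfl Y
    rw [hW]; infer_instance
  obtain ⟨N, ⟨e⟩⟩ := DerivedCategory.exists_iso_singleFunctor_obj_of_isGE_of_isLE (Plus.ι.obj W) q
  obtain ⟨e'⟩ := nonempty_homology_piece_iso Y q
  let eN : N ≅ (Plus.homologyFunctor A q).obj Y :=
    ((DerivedCategory.singleFunctorCompHomologyFunctorIso A q).app N).symm ≪≫
      ((DerivedCategory.homologyFunctor A q).mapIso e).symm ≪≫ e'
  exact ⟨Plus.ι.preimageIso (e ≪≫ (DerivedCategory.singleFunctor A q).mapIso eN)⟩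

end DerivedPlus

end Groth.Agent.SpecSeq
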