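import Groth.Agent.DCat.RDPlus
import Groth.Agent.SpecSeq.Truncation
import Groth.Agent.SpecSeq.MapExtend
import Mathlib.Algebra.Homology.DerivedCategory.SingleTriangle
import Mathlib.Algebra.Homology.Factorizations.CM5a
import Mathlib.Algebra.Homology.Embedding.ExtendHomology
import Mathlib.CategoryTheory.Abelian.RightDerived
import Mathlib.CategoryTheory.Abelian.Injective.Extend
import Mathlib.CategoryTheory.Abelian.Exact
import Mathlib.Algebra.Homology.HomologySequence

/-!
# `RS` on the bounded below derived category as a homological functor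
-/

set_option autoImplicit false
set_option backward.isDefEq.respectTransparency false
set_option backward.defeqAttrib.useBackward true

universe w w' v v' u u'

open CategoryTheory CategoryTheory.Limits CategoryTheory.Pretriangulated DerivedCategory

namespace Groth.Agent.SpecSeq

open Groth.Agent.DCat (injToDPlus rdModel)

variable (C : Type u) [Category.{v} C] [Abelian C] [EnoughInjectives C] [HasDerivedCategory.{w} C]
  {D : Type u'} [Category.{v'} D] [Abelian D] [HasDerivedCategory.{w'} D]

noncomputable instance injEquiv_functor_commShift :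
    (injToDPlus C).asEquivalence.functor.CommShift ℤ :=
  (inferInstance : (injToDPlus C).CommShift ℤ)

noncomputable instance injEquiv_inverse_commShift :
    (injToDPlus C).asEquivalence.inverse.CommShift ℤ :=
  (injToDPlus C).asEquivalence.commShiftInverse ℤ

instance injEquiv_commShift : (injToDPlus C).asEquivalence.CommShift ℤ :=
  (injToDPlus C).asEquivalence.commShift_of_functor ℤ

instance injEquiv_functor_isTriangulated :
    (injToDPlus C).asEquivalence.functor.IsTriangulated :=
  (inferInstance : (injToDPlus C).IsTriangulated)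

instance injEquiv_isTriangulated : (injToDPlus C).asEquivalence.IsTriangulated :=
  Equivalence.IsTriangulated.mk' (injToDPlus C).asEquivalence inferInstance

variable {C} (F : C ⥤ D) [F.Additive]

/-- `H^0 ∘ RF` on `D⁺(C)`. -/
noncomputable abbrev rdH : DerivedCategory.Plus C ⥤ D :=
  rdModel F ⋙ DerivedCategory.homologyFunctor D 0

noncomputable instance rdH_shiftSequence : (rdH F).ShiftSequence ℤ :=
  Functor.ShiftSequence.leftComp (Iso.refl (rdH F)) ℤ

instance rdH_isHomological : (rdH F).IsHomological := inferInstance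

/-- `H^n ∘ RF`. -/
noncomputable abbrev rdHn (n : ℤ) (W : DerivedCategory.Plus C) : D :=
  ((rdH F).shift n).obj W

/-- The value of `H^n ∘ RF` on a complex of injectives. -/
noncomputable def rdHnInjIso (n : ℤ) (L : CochainComplex.Plus C)
    (hL : ∀ i, Injective (L.obj.X i)) :
    rdHn F n (DerivedCategory.Plus.Q.obj L) ≅
      ((F.mapHomologicalComplex (ComplexShape.up ℤ)).obj L.obj).homology n :=
  let L' : CochainComplex.Plus (InjectiveObject C) :=
    ⟨HomologicalComplex.liftObjectProperty _ L.obj hL, by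
      obtain ⟨m, hm⟩ := L.property
      refine ⟨m, ?_⟩
      rwa [← CochainComplex.isStrictlyGE_mapHomologicalComplex_obj_iff _ (InjectiveObject.ι C)]⟩
  (DerivedCategory.homologyFunctor D n).mapIso
    ((Functor.isoWhiskerRight (injToDPlus C).asEquivalence.unitIso.symm
        (DCat.onInj F ⋙ DerivedCategory.Plus.ι)).app ((HomotopyCategory.Plus.quotient _).obj L') ≪≫
      (DerivedCategory.quotientCompQhIso D).app _) ≪≫
    (DerivedCategory.homologyFunctorFactors D n).app _

/-- Quasi-isomorphic complexes become isomorphic in `D⁺`. -/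
noncomputable def qIsoOfQuasiIso {K L : CochainComplex.Plus C} (i : K.obj ⟶ L.obj) [QuasiIso i] :
    DerivedCategory.Plus.Q.obj K ≅ DerivedCategory.Plus.Q.obj L :=
  DerivedCategory.Plus.ι.preimageIso
    ((DerivedCategory.quotientCompQhIso C).app K.obj ≪≫ asIso (DerivedCategory.Q.map i) ≪≫
      ((DerivedCategory.quotientCompQhIso C).app L.obj).symm)

lemma exists_injective_model (W : DerivedCategory.Plus C) (m : ℤ) [W.IsGE m] :
    ∃ (L : CochainComplex.Plus C) (_ : ∀ i, Injective (L.obj.X i)) (_ : L.obj.IsStrictlyGE m),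
      Nonempty (DerivedCategory.Plus.Q.obj L ≅ W) := by
  obtain ⟨L, hL, ⟨e⟩⟩ := DerivedCategory.Plus.exists_injective_nonempty_iso W m
  refine ⟨(InjectiveObject.ι C).mapCochainComplexPlus.obj L, fun i => (L.obj.X i).property, ?_, ⟨e⟩⟩
  rwa [← CochainComplex.isStrictlyGE_mapHomologicalComplex_obj_iff _ (InjectiveObject.ι C)] at hL

lemma isLeftBounded_rdH : IsLeftBounded DerivedCategory.Plus.TStructure.t (rdH F) := by
  intro W m n hW hn
  obtain ⟨L, hL, hLm, ⟨e⟩⟩ := exists_injective_model W m
  refine IsZero.of_iso ?_ (((rdH F).shift n).mapIso e.symm ≪≫ rdHnInjIso F n L hL)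
  exact HomologicalComplex.ExactAt.isZero_homology
    ((HomologicalComplex.exactAt_iff _ _).2 (ShortComplex.exact_of_isZero_X₂ _
      (F.map_isZero (CochainComplex.isZero_of_isStrictlyGE L.obj m _ hn))))

section Single

/-- `H^p RF` of an object in degree `0`. -/
noncomputable abbrev rdSingle (p : ℤ) (M : C) : D :=
  rdHn F p ((DerivedCategory.Plus.singleFunctor C 0).obj M)

lemma nonempty_rdSingle_iso [HasInjectiveResolutions C] (M : C) (p : ℕ) :
    Nonempty (rdSingle F p M ≅ (F.rightDerived p).obj M) := by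
  let R := injectiveResolution M
  let S₀ : CochainComplex.Plus C := ⟨(CochainComplex.singleFunctor C 0).obj M, 0, inferInstance⟩
  let L : CochainComplex.Plus C := ⟨R.cochainComplex, 0, inferInstance⟩
  have : QuasiIso (R.ι' : S₀.obj ⟶ L.obj) := inferInstanceAs (QuasiIso R.ι')
  let e₁ : DerivedCategory.Plus.ι.obj ((DerivedCategory.Plus.singleFunctor C 0).obj M) ≅
      DerivedCategory.Q.obj S₀.obj :=
    ((SingleFunctors.evaluation _ _ 0).mapIso (DerivedCategory.singleFunctorsPostcompQIso C)).app M
  let e₂ : DerivedCategory.Plus.ι.obj (DerivedCategory.Plus.Q.obj S₀) ≅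
      DerivedCategory.Q.obj S₀.obj :=
    (DerivedCategory.quotientCompQhIso C).app S₀.obj
  let e : (DerivedCategory.Plus.singleFunctor C 0).obj M ≅ DerivedCategory.Plus.Q.obj L :=
    DerivedCategory.Plus.ι.preimageIso (e₁ ≪≫ e₂.symm) ≪≫ qIsoOfQuasiIso (K := S₀) (L := L) R.ι'
  exact ⟨((rdH F).shift (p : ℤ)).mapIso e ≪≫
    rdHnInjIso F p L (fun i => inferInstanceAs (Injective (R.cochainComplex.X i))) ≪≫
    (HomologicalComplex.homologyFunctor D _ (p : ℤ)).mapIso
      (mapExtendIso F R.cocomplex ComplexShape.embeddingUpNat) ≪≫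
    ((F.mapHomologicalComplex _).obj R.cocomplex).extendHomologyIso ComplexShape.embeddingUpNat rfl ≪≫
    (R.isoRightDerivedObj F p).symm⟩

lemma isZero_rdSingle_of_neg (M : C) (p : ℤ) (hp : p < 0) : IsZero (rdSingle F p M) :=
  isLeftBounded_rdH F _ 0 p hp

/-- Objects concentrated in one degree. -/
noncomputable def rdHnSingleIso (n q p : ℤ) (h : p + q = n) (M : C) :
    rdHn F n ((DerivedCategory.Plus.singleFunctor C q).obj M) ≅ rdSingle F p M :=
  ((rdH F).shift n).mapIso
      (((DerivedCategory.Plus.singleFunctors C).shiftIso (-q) q 0 (by lia)).app M).symm ≪≫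
    ((rdH F).shiftIso (-q) n p (by lia)).app _

lemma nonempty_rdHn_single [HasInjectiveResolutions C] (n q : ℤ) (p : ℕ) (h : p + q = n) (M : C) :
    Nonempty (rdHn F n ((DerivedCategory.Plus.singleFunctor C q).obj M) ≅
      (F.rightDerived p).obj M) := by
  obtain ⟨e⟩ := nonempty_rdSingle_iso F M p
  exact ⟨rdHnSingleIso F n q p h M ≪≫ e⟩

/-- `F`-acyclic objects. -/
def RAcyclic (M : C) : Prop := ∀ p : ℤ, 0 < p → IsZero (rdSingle F p M)

lemma rAcyclic_iff [HasInjectiveResolutions C] (M : C) :
    RAcyclic F M ↔ ∀ q : ℕ, 0 < q → IsZero ((F.rightDerived q).obj M) := by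
  constructor
  · intro h q hq
    obtain ⟨e⟩ := nonempty_rdSingle_iso F M q
    exact (h q (by exact_mod_cast hq)).of_iso e.symm
  · intro h p hp
    obtain ⟨q, rfl⟩ := Int.eq_ofNat_of_zero_le hp.le
    obtain ⟨e⟩ := nonempty_rdSingle_iso F M q
    exact (h q (by exact_mod_cast hp)).of_iso e

lemma rAcyclic_of_isZero {M : C} (hM : IsZero M) : RAcyclic F M := fun _ _ =>
  Functor.map_isZero _ (Functor.map_isZero _ hM)

lemma rAcyclic_of_injective [HasInjectiveResolutions C] (M : C) [Injective M] : RAcyclic F M := by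
  rw [rAcyclic_iff]
  intro q hq
  obtain ⟨k, rfl⟩ : ∃ k, q = k + 1 := ⟨q - 1, by lia⟩
  exact Functor.isZero_rightDerived_obj_injective_succ F k M

variable {F}

omit [EnoughInjectives C] in
/-- A short exact sequence gives a triangle in `D⁺`. -/
lemma exists_plus_singleTriangle {S : ShortComplex C} (hS : S.ShortExact) :
    ∃ δ, Triangle.mk ((DerivedCategory.Plus.singleFunctor C 0).map S.f)
      ((DerivedCategory.Plus.singleFunctor C 0).map S.g) δ ∈
        distTriang (DerivedCategory.Plus C) := by
  let s := DerivedCategory.Plus.singleFunctor C 0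
  let ι := DerivedCategory.Plus.ι (C := C)
  let δ : s.obj S.X₃ ⟶ (s.obj S.X₁)⟦(1 : ℤ)⟧ :=
    ι.preimage (hS.singleδ ≫ (ι.commShiftIso (1 : ℤ)).inv.app (s.obj S.X₁))
  have hT : Triangle.mk (s.map S.f) (s.map S.g) δ ∈ distTriang (DerivedCategory.Plus C) := by
    rw [← ι.map_distinguished_iff]
    refine isomorphic_distinguished _ hS.singleTriangle_distinguished _
      (Triangle.isoMk _ _ (Iso.refl _) (Iso.refl _) (Iso.refl _) ?_ ?_ ?_)
    · exact (Category.comp_id _).trans (Category.id_comp _).symm
    · exact (Category.comp_id _).trans (Category.id_comp _).symm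
    · dsimp [δ]
      simp [ι.commShiftIso (1 : ℤ) |>.inv_hom_id_app]
      exact Category.comp_id _
  exact ⟨δ, hT⟩

lemma rAcyclic_X₃ {S : ShortComplex C} (hS : S.ShortExact) (h₁ : RAcyclic F S.X₁)
    (h₂ : RAcyclic F S.X₂) : RAcyclic F S.X₃ := by
  intro p hp
  obtain ⟨δ, hT⟩ := exists_plus_singleTriangle hS
  exact ((rdH F).homologySequence_exact₃ _ hT p (p + 1) rfl).isZero_X₂
    ((h₂ p hp).eq_of_src _ _) ((h₁ (p + 1) (by lia)).eq_of_tgt _ _)

/-- The connecting map of `H^• RF` of a short exact sequence is invertible when the middle term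
vanishes. -/
lemma exists_isIso_rdSingle {S : ShortComplex C} (hS : S.ShortExact) (p q : ℤ) (hpq : p + 1 = q)
    (h₂ : IsZero (rdSingle F p S.X₂)) (h₂' : IsZero (rdSingle F q S.X₂)) :
    ∃ δ : rdSingle F p S.X₃ ⟶ rdSingle F q S.X₁, IsIso δ := by
  obtain ⟨δ, hT⟩ := exists_plus_singleTriangle hS
  let T : Triangle (DerivedCategory.Plus C) := Triangle.mk
    ((DerivedCategory.Plus.singleFunctor C 0).map S.f)
    ((DerivedCategory.Plus.singleFunctor C 0).map S.g) δ
  let d : ((rdH F).shift p).obj T.obj₃ ⟶ ((rdH F).shift q).obj T.obj₁ :=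
    (rdH F).homologySequenceδ T p q hpq
  have h₃ := (rdH F).homologySequence_exact₃ T hT p q hpq
  have h₁ := (rdH F).homologySequence_exact₁ T hT p q hpq
  have h₂a : IsZero (((rdH F).shift p).obj T.obj₂) := h₂
  have h₂b : IsZero (((rdH F).shift q).obj T.obj₂) := h₂'
  have hm : Mono d := h₃.mono_g (h₂a.eq_of_src _ _)
  have he : Epi d := h₁.epi_f (h₂b.eq_of_tgt _ _)
  have hd : IsIso d := isIso_of_mono_of_epi d
  exact Exists.intro d hd

omit [HasDerivedCategory C] [HasDerivedCategory D] in
lemma epi_map_of_isZero_rightDerived_one [HasInjectiveResolutions C] [PreservesFiniteLimits F]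
    {S : ShortComplex C} (hS : S.ShortExact) (h : IsZero ((F.rightDerived 1).obj S.X₁)) :
    Epi (F.map S.g) := by
  have := hS.mono_f
  have := hS.epi_g
  let R := injectiveResolution S.X₁
  have hR : Epi (kernel.lift (F.map (R.cocomplex.d 1 2)) (F.map (R.cocomplex.d 0 1))
      (by rw [← F.map_comp, HomologicalComplex.d_comp_d, F.map_zero])) := by
    have hex : ((F.mapHomologicalComplex _).obj R.cocomplex).ExactAt 1 := by
      rw [HomologicalComplex.exactAt_iff_isZero_homology]
      exact h.of_iso (R.isoRightDerivedObj F 1).symm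
    rw [HomologicalComplex.exactAt_iff' _ 0 1 2 (by simp) (by simp),
      ShortComplex.exact_iff_epi_kernel_lift] at hex
    exact hex
  let α : S.X₂ ⟶ R.cocomplex.X 0 := Injective.factorThru (R.ι.f 0) S.f
  have hα : S.f ≫ α = R.ι.f 0 := Injective.comp_factorThru _ _
  have hw : S.f ≫ α ≫ R.cocomplex.d 0 1 = 0 := by
    rw [← Category.assoc, hα, R.ι_f_zero_comp_complex_d]
  let β : S.X₃ ⟶ R.cocomplex.X 1 := hS.exact.desc (α ≫ R.cocomplex.d 0 1) hw
  have hgβ : S.g ≫ β = α ≫ R.cocomplex.d 0 1 := hS.exact.g_desc _ _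
  have hβ : β ≫ R.cocomplex.d 1 2 = 0 := by
    rw [← cancel_epi S.g, reassoc_of% hgβ, R.cocomplex.d_comp_d, comp_zero, comp_zero]
  -- lift a generalized element of `F(X₃)` to `F(R⁰)`, then use the pullback square
  rw [epi_iff_surjective_up_to_refinements]
  intro A y
  rw [epi_iff_surjective_up_to_refinements] at hR
  obtain ⟨A', π, _, x, hx⟩ := hR
    (kernel.lift _ (y ≫ F.map β) (by simp [← F.map_comp, hβ]))
  replace hx := congrArg (fun t => t ≫ kernel.ι (F.map (R.cocomplex.d 1 2))) hx
  simp only [Category.assoc, kernel.lift_ι] at hx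
  -- `S.X₂` is the pullback of `R⁰ → R¹` along `β`
  have hd : R.ι.f 0 ≫ R.cocomplex.d 0 1 = 0 := R.ι_f_zero_comp_complex_d
  have hker : (ShortComplex.mk (R.ι.f 0) (R.cocomplex.d 0 1) hd).Exact :=
    ShortComplex.exact_of_f_is_kernel _ R.isLimitKernelFork
  let l : S.X₂ ⟶ pullback (R.cocomplex.d 0 1) β := pullback.lift α S.g hgβ.symm
  have : Mono l := Preadditive.mono_of_cancel_zero _ fun {T} m hm => by
    have h₁ : m ≫ α = 0 := by
      have := congrArg (fun t => t ≫ pullback.fst _ _) hm
      simpa [l] using this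
    have h₂ : m ≫ S.g = 0 := by
      have := congrArg (fun t => t ≫ pullback.snd _ _) hm
      simpa [l] using this
    have h₃ : hS.exact.lift m h₂ ≫ R.ι.f 0 = 0 := by
      rw [← hα, ← Category.assoc, hS.exact.lift_f, h₁]
    rw [← hS.exact.lift_f m h₂, Limits.zero_of_comp_mono (R.ι.f 0) h₃, zero_comp]
  have : Epi l := by
    rw [epi_iff_surjective_up_to_refinements]
    intro T t
    obtain ⟨T', q, _, m, hm⟩ := surjective_up_to_refinements_of_epi S.g (t ≫ pullback.snd _ _)
    have hw' : (q ≫ t ≫ pullback.fst _ _ - m ≫ α) ≫ R.cocomplex.d 0 1 = 0 := by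
      rw [Preadditive.sub_comp, Category.assoc, Category.assoc, Category.assoc, pullback.condition,
        ← hgβ, reassoc_of% hm, sub_self]
    refine ⟨T', q, inferInstance, m + hker.lift _ hw' ≫ S.f, ?_⟩
    ext
    · simp only [Category.assoc, Preadditive.add_comp, l, pullback.lift_fst, hα]
      rw [show hker.lift _ hw' ≫ R.ι.f 0 = _ from hker.lift_f _ hw']
      abel
    · simp [l, hm]
  have := isIso_of_mono_of_epi l
  have hpb : IsPullback α S.g (R.cocomplex.d 0 1) β :=
    IsPullback.of_iso_pullback ⟨hgβ.symm⟩ (asIso l) (pullback.lift_fst _ _ _) (pullback.lift_snd _ _ _)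
  exact ⟨A', π, inferInstance, (hpb.map F).lift x (π ≫ y) (by simpa using hx.symm),
    ((hpb.map F).lift_snd _ _ _).symm⟩

end Single

section Acyclic

variable {F} [HasInjectiveResolutions C] [PreservesFiniteLimits F]

omit [EnoughInjectives C] [HasDerivedCategory C] [HasInjectiveResolutions C] in
/-- The short exact sequence `0 → Z^i → K^i → Z^j → 0` at an exact position. -/
lemma shortExact_cycles (K : CochainComplex C ℤ) (i j : ℤ) (hij : i + 1 = j) (hK : K.ExactAt j) :
    (ShortComplex.mk (K.iCycles i) (K.toCycles i j) (by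
      rw [← cancel_mono (K.iCycles j), Category.assoc, HomologicalComplex.toCycles_i,
        HomologicalComplex.iCycles_d, zero_comp])).ShortExact where
  exact := by
    rw [ShortComplex.exact_iff_exact_up_to_refinements]
    intro A x hx
    refine ⟨A, 𝟙 A, inferInstance, K.liftCycles x j (by simp [hij]) ?_, ?_⟩
    · rw [← K.toCycles_i i j, ← Category.assoc, hx, zero_comp]
    · simp
  epi_g := by
    rw [HomologicalComplex.exactAt_iff_isZero_homology] at hK
    exact (ShortComplex.exact_iff_epi _ (hK.eq_of_tgt (K.homologyπ j) 0)).1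
      (ShortComplex.exact_of_g_is_cokernel
        (ShortComplex.mk _ _ (K.toCycles_comp_homologyπ i j)) (K.homologyIsCokernel i j (by simp [← hij])))

omit [HasInjectiveResolutions C] [PreservesFiniteLimits F] in
lemma rAcyclic_cycles (K : CochainComplex C ℤ) (m : ℤ) [K.IsStrictlyGE m] (hK : K.Acyclic)
    (hX : ∀ i, RAcyclic F (K.X i)) : ∀ i : ℤ, RAcyclic F (K.cycles i) := by
  have h₀ : ∀ i, i < m → IsZero (K.cycles i) := fun i hi =>
    Limits.IsZero.of_mono (K.iCycles i) (CochainComplex.isZero_of_isStrictlyGE K m i hi)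
  have h₁ : ∀ k : ℕ, RAcyclic F (K.cycles (m - 1 + k)) := by
    intro k
    induction k with
    | zero => exact rAcyclic_of_isZero F (h₀ (m - 1 + ((0 : ℕ) : ℤ)) (by simp))
    | succ k ih =>
      have hS := shortExact_cycles K (m - 1 + (k : ℤ)) (m - 1 + ((k + 1 : ℕ) : ℤ))
        (by push_cast; ring) (hK _)
      have h := rAcyclic_X₃ (F := F) hS ih (hX (m - 1 + (k : ℤ)))
      exact h
  intro i
  by_cases hi : i < m
  · exact rAcyclic_of_isZero F (h₀ i hi)
  · obtain ⟨k, hk⟩ := Int.eq_ofNat_of_zero_le (show 0 ≤ i - (m - 1) by lia)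
    rw [show i = m - 1 + (k : ℤ) by lia]
    exact h₁ k

/-- A left exact functor keeps exact a bounded below exact complex of acyclic objects. -/
lemma acyclic_map (K : CochainComplex C ℤ) (m : ℤ) [K.IsStrictlyGE m] (hK : K.Acyclic)
    (hX : ∀ i, RAcyclic F (K.X i)) :
    ((F.mapHomologicalComplex (ComplexShape.up ℤ)).obj K).Acyclic := by
  intro j
  rw [HomologicalComplex.exactAt_iff' _ (j - 1) j (j + 1) (by simp) (by simp),
    ShortComplex.exact_iff_exact_up_to_refinements]
  intro A x hx
  dsimp at x hx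
  let S := ShortComplex.mk (K.iCycles j) (K.toCycles j (j + 1)) (by
    rw [← cancel_mono (K.iCycles (j + 1)), Category.assoc, HomologicalComplex.toCycles_i,
      HomologicalComplex.iCycles_d, zero_comp])
  have hS : S.ShortExact := shortExact_cycles K j (j + 1) rfl (hK _)
  have := hS.mono_f
  have hS' : (S.map F).Exact ∧ Mono (S.map F).f :=
    (ShortComplex.exact_and_mono_f_iff_f_is_kernel _).2 ⟨KernelFork.mapIsLimit _ hS.fIsKernel F⟩
  have := hS'.2
  have hx' : x ≫ F.map S.g = 0 := by
    rw [← cancel_mono (F.map (K.iCycles (j + 1))), Category.assoc, ← F.map_comp, zero_comp]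
    simpa [S] using hx
  obtain ⟨y, hy⟩ : ∃ y, y ≫ F.map S.f = x := ⟨hS'.1.lift x hx', hS'.1.lift_f x hx'⟩
  have : Epi (F.map (K.toCycles (j - 1) j)) :=
    epi_map_of_isZero_rightDerived_one (shortExact_cycles K (j - 1) j (by lia) (hK _))
      ((rAcyclic_iff F _).1 (rAcyclic_cycles K m hK hX (j - 1)) 1 Nat.one_pos)
  obtain ⟨A', π, _, z, hz⟩ := surjective_up_to_refinements_of_epi (F.map (K.toCycles (j - 1) j)) y
  refine ⟨A', π, inferInstance, z, ?_⟩
  dsimp
  rw [← K.toCycles_i (j - 1) j, F.map_comp, ← Category.assoc z, ← hz, Category.assoc, hy]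

set_option maxHeartbeats 1000000 in
/-- A bounded below complex of acyclic objects computes the derived functor. -/
lemma nonempty_rdHn_acyclic (K : CochainComplex.Plus C) (hX : ∀ i, RAcyclic F (K.obj.X i)) (n : ℤ) :
    Nonempty (rdHn F n (DerivedCategory.Plus.Q.obj K) ≅
      ((F.mapHomologicalComplex (ComplexShape.up ℤ)).obj K.obj).homology n) := by
  obtain ⟨m, hm⟩ := K.property
  obtain ⟨L, i, _, _, hL, hLm⟩ :=
    CochainComplex.Plus.modelCategoryQuillen.exists_mono_quasiIso_injective K.obj (m - 1) m (by simp)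
  let S := ShortComplex.mk i (cokernel.π i) (cokernel.condition i)
  have hS : S.ShortExact := { exact := ShortComplex.exact_cokernel i }
  have hSn : ∀ j, (S.map (HomologicalComplex.eval C (ComplexShape.up ℤ) j)).ShortExact := fun j =>
    hS.map_of_exact _
  have : S.X₃.IsStrictlyGE (m - 1) := by
    rw [CochainComplex.isStrictlyGE_iff]
    intro j hj
    have : Epi ((cokernel.π i).f j) := (hSn j).epi_g
    exact Limits.IsZero.of_epi ((cokernel.π i).f j) (L.isZero_of_isStrictlyGE (m - 1) j hj)
  have hiso : ∀ j, IsIso (HomologicalComplex.homologyMap i j) := fun j => inferInstance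
  have hZ : S.X₃.Acyclic := by
    intro j
    rw [HomologicalComplex.exactAt_iff_isZero_homology]
    have : IsIso (HomologicalComplex.homologyMap i (j + 1)) := hiso _
    have : IsIso (HomologicalComplex.homologyMap i j) := hiso _
    refine (hS.homology_exact₃ j (j + 1) (by simp)).isZero_X₂ ?_ ?_
    · exact (cancel_epi (HomologicalComplex.homologyMap i j)).1
        ((ShortComplex.mk (HomologicalComplex.homologyMap i j)
          (HomologicalComplex.homologyMap (cokernel.π i) j) (by
            rw [← HomologicalComplex.homologyMap_comp, cokernel.condition,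
              HomologicalComplex.homologyMap_zero])).zero.trans comp_zero.symm)
    · exact (cancel_mono (HomologicalComplex.homologyMap i (j + 1))).1
        ((hS.δ_comp j (j + 1) (by simp)).trans zero_comp.symm)
  have hX₃ : ∀ j, RAcyclic F (S.X₃.X j) := fun j => by
    have := hL j
    have h₂ : RAcyclic F (L.X j) := rAcyclic_of_injective F (L.X j)
    have h := rAcyclic_X₃ (F := F) (hSn j) (hX j) h₂
    exact h
  have hFS : (S.map (F.mapHomologicalComplex (ComplexShape.up ℤ))).ShortExact :=
    HomologicalComplex.shortExact_of_degreewise_shortExact _ fun j => by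
      have := (hSn j).mono_f
      have h := (ShortComplex.exact_and_mono_f_iff_f_is_kernel
        ((S.map (HomologicalComplex.eval C (ComplexShape.up ℤ) j)).map F)).2
        ⟨KernelFork.mapIsLimit _ (hSn j).fIsKernel F⟩
      have he : Epi (((S.map (HomologicalComplex.eval C (ComplexShape.up ℤ) j)).map F).g) :=
        epi_map_of_isZero_rightDerived_one (hSn j) ((rAcyclic_iff F _).1 (hX j) 1 Nat.one_pos)
      exact { exact := h.1, mono_f := h.2, epi_g := he }
  have hFZ := acyclic_map S.X₃ (m - 1) hZ hX₃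
  have : Mono (HomologicalComplex.homologyMap ((F.mapHomologicalComplex (ComplexShape.up ℤ)).map i) n) :=
    (hFS.homology_exact₁ (n - 1) n (by simp)).mono_g
      ((hFZ (n - 1)).isZero_homology.eq_of_src _ _)
  have : Epi (HomologicalComplex.homologyMap ((F.mapHomologicalComplex (ComplexShape.up ℤ)).map i) n) :=
    (hFS.homology_exact₂ n).epi_f ((hFZ n).isZero_homology.eq_of_tgt _ _)
  have := isIso_of_mono_of_epi
    (HomologicalComplex.homologyMap ((F.mapHomologicalComplex (ComplexShape.up ℤ)).map i) n)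
  let L' : CochainComplex.Plus C := ⟨L, m - 1, hLm⟩
  have : QuasiIso (i : K.obj ⟶ L'.obj) := inferInstanceAs (QuasiIso i)
  exact ⟨((rdH F).shift n).mapIso (qIsoOfQuasiIso (K := K) (L := L') i) ≪≫
    rdHnInjIso F n L' hL ≪≫
    (asIso (HomologicalComplex.homologyMap ((F.mapHomologicalComplex (ComplexShape.up ℤ)).map i) n)).symm⟩

end Acyclic

end Groth.Agent.SpecSeq
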