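import Groth.Agent.SpecSeq.Grothendieck
import Groth.Agent.SpecSeq.SheafSS
import Mathlib.Algebra.Homology.Double
import Mathlib.Algebra.Homology.ShortComplex.ExactFunctor

/-!
# The spectral sequence of `H^0 ∘ T` for a functor `T` to complexes

In the abelian category of complexes indexed by `ℕ`, the right derived functors of `H^0` are the
`H^p`.  Hence a functor `T` to complexes whose values on injective objects are acyclic in positive
degrees gives a spectral sequence `H^p (R^q T A) ⇒ R^{p+q}(H^0 ∘ T) A`.
-/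

set_option autoImplicit false
set_option backward.isDefEq.respectTransparency false
set_option backward.defeqAttrib.useBackward true

universe v v' u u'

open CategoryTheory CategoryTheory.Limits

namespace Groth.Agent.SpecSeq

variable {B : Type u} [Category.{v} B] [Abelian B]

/-- An injective complex is acyclic in positive degrees. -/
lemma exactAt_succ_of_injective (I : CochainComplex B ℕ) [Injective I] (n : ℕ) :
    I.ExactAt (n + 1) := by
  rw [HomologicalComplex.exactAt_iff' _ n (n + 1) (n + 2) (by simp) (by simp),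
    ShortComplex.exact_iff_exact_up_to_refinements]
  intro A x hx
  dsimp at x hx
  let S := (HomologicalComplex.single B (ComplexShape.up ℕ) (n + 1)).obj A
  have hne : (n + 1 : ℕ) ≠ n := by omega
  let D := HomologicalComplex.double (𝟙 A) (show (ComplexShape.up ℕ).Rel n (n + 1) by simp)
  let j : S ⟶ D := HomologicalComplex.mkHomFromSingle
    (HomologicalComplex.doubleXIso₁ (𝟙 A) (show (ComplexShape.up ℕ).Rel n (n + 1) by simp) hne.symm).inv
    (fun k hk => (HomologicalComplex.isZero_double_X (𝟙 A)
      (show (ComplexShape.up ℕ).Rel n (n + 1) by simp) k (by simp at hk; omega)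
      (by simp at hk; omega)).eq_of_tgt _ _)
  have : Mono j := by
    have : ∀ i, Mono (j.f i) := fun i => by
      by_cases hi : i = n + 1
      · subst hi
        simp only [j, HomologicalComplex.mkHomFromSingle_f]
        infer_instance
      · exact ⟨fun a b _ => (HomologicalComplex.isZero_single_obj_X _ _ _ _ hi).eq_of_tgt _ _⟩
    exact HomologicalComplex.mono_of_mono_f _ this
  let f : S ⟶ I := HomologicalComplex.mkHomFromSingle x (fun k hk => by
    obtain rfl : n + 2 = k := by simp at hk; omega
    exact hx)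
  let g : D ⟶ I := Injective.factorThru f j
  have hg : j ≫ g = f := Injective.comp_factorThru _ _
  refine ⟨A, 𝟙 A, inferInstance,
    (HomologicalComplex.doubleXIso₀ (𝟙 A) (show (ComplexShape.up ℕ).Rel n (n + 1) by simp)).inv ≫
      g.f n, ?_⟩
  have h₁ := congrArg (fun t => (HomologicalComplex.singleObjXSelf (ComplexShape.up ℕ) (n + 1) A).inv ≫
    t.f (n + 1)) hg
  simp only [j, f, HomologicalComplex.comp_f, HomologicalComplex.mkHomFromSingle_f,
    Category.assoc, Iso.inv_hom_id_assoc] at h₁
  dsimp
  rw [Category.id_comp, Category.assoc, g.comm, HomologicalComplex.double_d _ _ hne.symm]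
  simp [h₁]

variable (B)

/-- `H^0` on complexes indexed by `ℕ`. -/
noncomputable abbrev hZero : CochainComplex B ℕ ⥤ B :=
  HomologicalComplex.homologyFunctor B (ComplexShape.up ℕ) 0

instance hZero_preservesFiniteLimits : PreservesFiniteLimits (hZero B) := by
  rw [(hZero B).preservesFiniteLimits_iff_forall_exact_map_and_mono]
  intro S hS
  have := hS.mono_f
  exact ⟨hS.homology_exact₂ 0,
    HomologicalComplex.mono_homologyMap_of_mono_of_not_rel S.f 0 (fun i => by simp)⟩

variable {B}

lemma isZero_rightDerived_shift {A : Type u'} [Category.{v'} A] [Abelian A]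
    [HasInjectiveResolutions A] (F : A ⥤ B) [F.Additive]
    {S : ShortComplex A} (hS : S.ShortExact) [Injective S.X₂] (p : ℕ) :
    Nonempty ((F.rightDerived (p + 2)).obj S.X₁ ≅ (F.rightDerived (p + 1)).obj S.X₃) := by
  let _ := HasDerivedCategory.standard A
  let _ := HasDerivedCategory.standard B
  have := enoughInjectives_of_hasInjectiveResolutions A
  obtain ⟨δ, hδ⟩ := exists_isIso_rdSingle (F := F) hS (p + 1 : ℕ) (p + 2 : ℕ) (by push_cast; ring)
    (rAcyclic_of_injective F S.X₂ _ (by positivity)) (rAcyclic_of_injective F S.X₂ _ (by positivity))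
  obtain ⟨e₁⟩ := nonempty_rdSingle_iso F S.X₁ (p + 2)
  obtain ⟨e₃⟩ := nonempty_rdSingle_iso F S.X₃ (p + 1)
  exact ⟨e₁.symm ≪≫ (asIso δ).symm ≪≫ e₃⟩

/-- `R^p H^0 = H^p`. -/
theorem nonempty_rightDerived_hZero_iso [HasInjectiveResolutions (CochainComplex B ℕ)]
    (p : ℕ) (X : CochainComplex B ℕ) :
    Nonempty (((hZero B).rightDerived p).obj X ≅ X.homology p) := by
  induction p generalizing X with
  | zero => exact ⟨(Functor.rightDerivedZeroIsoSelf (hZero B)).app X⟩
  | succ p ih =>
    let R := injectiveResolution X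
    let Q := kernel (R.cocomplex.d 1 2)
    let l : R.cocomplex.X 0 ⟶ Q := kernel.lift _ (R.cocomplex.d 0 1) (R.cocomplex.d_comp_d _ _ _)
    have hl : R.ι.f 0 ≫ l = 0 := by
      rw [← cancel_mono (kernel.ι (R.cocomplex.d 1 2)), Category.assoc, kernel.lift_ι, zero_comp]
      exact R.ι_f_zero_comp_complex_d
    have : Epi l := by
      have h := R.cocomplex_exactAt_succ 0
      rw [HomologicalComplex.exactAt_iff' _ 0 1 2 (by simp) (by simp),
        ShortComplex.exact_iff_epi_kernel_lift] at h
      exact h
    let S := ShortComplex.mk (R.ι.f 0) l hl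
    have hS : S.ShortExact :=
      { exact := by
          have hker : (ShortComplex.mk (R.ι.f 0) (R.cocomplex.d 0 1) R.ι_f_zero_comp_complex_d).Exact :=
            ShortComplex.exact_of_f_is_kernel _ R.isLimitKernelFork
          let φ : S ⟶ ShortComplex.mk (R.ι.f 0) (R.cocomplex.d 0 1) R.ι_f_zero_comp_complex_d :=
            { τ₁ := 𝟙 _
              τ₂ := 𝟙 _
              τ₃ := kernel.ι _
              comm₁₂ := by simp [S]
              comm₂₃ := by simp [S, l] }
          exact (ShortComplex.exact_iff_of_epi_of_isIso_of_mono φ).2 hker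
        mono_f := inferInstanceAs (Mono (R.ι.f 0))
        epi_g := inferInstanceAs (Epi l) }
    have : Injective S.X₂ := inferInstanceAs (Injective (R.cocomplex.X 0))
    have hz : ∀ k, IsZero (S.X₂.homology (k + 1)) := fun k =>
      (HomologicalComplex.exactAt_iff_isZero_homology _ _).1 (exactAt_succ_of_injective S.X₂ k)
    match p with
    | 0 =>
      let G := ((hZero B).mapHomologicalComplex _).obj R.cocomplex
      let e : (hZero B).obj Q ≅ G.cycles 1 :=
        PreservesKernel.iso (hZero B) _ ≪≫
          IsLimit.conePointUniqueUpToIso (kernelIsKernel _) (G.cyclesIsKernel 1 2 (by simp))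
      have he : (hZero B).map l ≫ e.hom = G.toCycles 0 1 := by
        rw [← cancel_mono (G.iCycles 1), G.toCycles_i, Category.assoc]
        have h' : (IsLimit.conePointUniqueUpToIso (kernelIsKernel ((hZero B).map (R.cocomplex.d 1 2)))
            (G.cyclesIsKernel 1 2 (by simp))).hom ≫ G.iCycles 1 = kernel.ι _ :=
          IsLimit.conePointUniqueUpToIso_hom_comp _ _ WalkingParallelPair.zero
        have he' : e.hom ≫ G.iCycles 1 =
            kernelComparison (R.cocomplex.d 1 2) (hZero B) ≫ kernel.ι _ :=
          ((congrArg (fun t => (t ≫ _) ≫ G.iCycles 1) (PreservesKernel.iso_hom (hZero B) (R.cocomplex.d 1 2))).trans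
            (Category.assoc _ _ _)).trans
            (congrArg (kernelComparison (R.cocomplex.d 1 2) (hZero B) ≫ ·) h')
        rw [he', kernelComparison_comp_ι, ← Functor.map_comp, kernel.lift_ι]
        rfl
      have : Epi (hS.δ 0 1 rfl) := (hS.homology_exact₁ 0 1 rfl).epi_f ((hz 0).eq_of_tgt _ _)
      exact ⟨R.isoRightDerivedObj (hZero B) 1 ≪≫
        IsColimit.coconePointUniqueUpToIso (G.homologyIsCokernel 0 1 (by simp))
          (cokernelIsCokernel (G.toCycles 0 1)) ≪≫
        (cokernel.mapIso ((hZero B).map l) (G.toCycles 0 1) (Iso.refl _) e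
          (by rw [Iso.refl_hom, Category.id_comp, he])).symm ≪≫
        IsColimit.coconePointUniqueUpToIso (cokernelIsCokernel _)
          (hS.homology_exact₃ 0 1 rfl).gIsCokernel⟩
    | k + 1 =>
      obtain ⟨e₁⟩ := isZero_rightDerived_shift (hZero B) hS k
      obtain ⟨e₂⟩ := ih Q
      exact ⟨e₁ ≪≫ e₂ ≪≫ hS.δIso (k + 1) (k + 2) rfl (hz k) (hz (k + 1))⟩

/-- The spectral sequence of a functor to complexes. -/
theorem exists_complexFunctor {A : Type u'} [Category.{v'} A] [Abelian A] [HasInjectiveResolutions A]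
    [HasInjectiveResolutions (CochainComplex B ℕ)] (T : A ⥤ CochainComplex B ℕ) [T.Additive]
    (hT : ∀ Q : A, Injective Q → ∀ q : ℕ, IsZero ((T.obj Q).homology (q + 1)))
    (M : A) {H : ℤ → B} {X : ℤ → ℤ → B}
    (eH : ∀ n : ℕ, Nonempty (((T ⋙ hZero B).rightDerived n).obj M ≅ H n))
    (zH : ∀ n : ℤ, n < 0 → IsZero (H n))
    (eX : ∀ p q : ℕ, Nonempty (((T.rightDerived q).obj M).homology p ≅ X p q))
    (zX : ∀ p q : ℤ, ¬ (0 ≤ p ∧ 0 ≤ q) → IsZero (X p q)) :
    ∃ (E : E₂CohomologicalSpectralSequence B) (a : SpSeq.Abutment E H),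
      (∀ n, a.IsFinite n) ∧ SpSeq.IsBounded E ∧
      ∀ p q : ℤ, Nonempty ((E.page 2 le_rfl).X (p, q) ≅ X p q) := by
  refine exists_composite T (hZero B) (fun Q hQ q hq => ?_) M eH zH (fun p q => ?_) zX
  · obtain ⟨k, rfl⟩ : ∃ k, q = k + 1 := ⟨q - 1, by omega⟩
    obtain ⟨e⟩ := nonempty_rightDerived_hZero_iso (k + 1) (T.obj Q)
    exact (hT Q hQ k).of_iso e
  · obtain ⟨e⟩ := nonempty_rightDerived_hZero_iso p ((T.rightDerived q).obj M)
    obtain ⟨e'⟩ := eX p q
    exact ⟨e ≪≫ e'⟩

end Groth.Agent.SpecSeq
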