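import Groth.Agent.SpecSeq.SheafSS
import Groth.Agent.SiteCoh.ExtResolution

/-!
# The spectral sequence of `Hom (P, -) ∘ T`
-/

set_option autoImplicit false

universe v v' u u'

open CategoryTheory CategoryTheory.Limits CategoryTheory.Abelian Opposite

namespace Groth.Agent.SpecSeq

variable {C : Type u} [Category.{v} C] [Abelian C]

/-- `Hom (P, -)`. -/
noncomputable abbrev homFrom (P : C) : C ⥤ AddCommGrpCat.{v} :=
  SiteCoh.homGroups (Functor.fromPUnit.{0} P) ⋙
    (evaluation _ AddCommGrpCat.{v}).obj (op ⟨PUnit.unit⟩)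

instance homFrom_preservesFiniteLimits (P : C) : PreservesFiniteLimits (homFrom P) :=
  have : PreservesFiniteLimits (preadditiveCoyoneda.obj (op P)) :=
    ⟨fun _ _ _ => inferInstance⟩
  preservesFiniteLimits_of_natIso
    (NatIso.ofComponents (fun _ => Iso.refl _) (fun _ => rfl) : preadditiveCoyoneda.obj (op P) ≅ homFrom P)

/-- Transposition along an adjunction. -/
noncomputable def homFromCompIso {D : Type u'} [Category.{v} D] [Abelian D] {L : C ⥤ D} {G : D ⥤ C}
    (adj : L ⊣ G) [G.Additive] (P : C) : G ⋙ homFrom P ≅ homFrom (L.obj P) :=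
  have : L.Additive := adj.left_adjoint_additive
  NatIso.ofComponents (fun F => (AddEquiv.toAddCommGrpIso (adj.homAddEquiv P F).symm)) (fun {F F'} φ => by
    ext x
    exact adj.homEquiv_naturality_right_symm x φ)

variable [HasExt.{v} C] [EnoughInjectives C]

/-- `R^n Hom (P, -) = Ext^n (P, -)`. -/
noncomputable def homFromDerivedIso (P F : C) (n : ℕ) :
    ((homFrom P).rightDerived n).obj F ≅ AddCommGrpCat.of (Ext P F n) :=
  (SiteCoh.rightDerivedCompExactIso (SiteCoh.homGroups (Functor.fromPUnit.{0} P))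
      ((evaluation _ AddCommGrpCat.{v}).obj (op ⟨PUnit.unit⟩)) n).app F ≪≫
    ((SiteCoh.rightDerivedHomGroupsIso (Functor.fromPUnit.{0} P) n).app F).app (op ⟨PUnit.unit⟩)

end Groth.Agent.SpecSeq
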