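import Groth.Agent.SpecSeq.Grothendieck

/-!
# Right derived functors of a composite with an exact functor
-/

set_option autoImplicit false
set_option backward.isDefEq.respectTransparency false
set_option backward.defeqAttrib.useBackward true

universe v v' v'' u u' u''

open CategoryTheory CategoryTheory.Limits DerivedCategory

namespace Groth.Agent.SpecSeq

variable {C : Type u} [Category.{v} C] [Abelian C] [HasInjectiveResolutions C]
  {C' : Type u'} [Category.{v'} C'] [Abelian C'] [HasInjectiveResolutions C']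
  {C'' : Type u''} [Category.{v''} C''] [Abelian C'']

/-- `R^n (T ⋙ S) A ≅ R^n S (T A)` when `T` is exact and sends injective objects to `S`-acyclic
objects. -/
theorem nonempty_rightDerived_exactComp (T : C ⥤ C') [T.Additive] [PreservesFiniteLimits T]
    [PreservesFiniteColimits T] (S : C' ⥤ C'') [S.Additive] [PreservesFiniteLimits S]
    (hT : ∀ Q : C, Injective Q → ∀ q : ℕ, 0 < q → IsZero ((S.rightDerived q).obj (T.obj Q)))
    (A : C) (n : ℕ) :
    Nonempty (((T ⋙ S).rightDerived n).obj A ≅ (S.rightDerived n).obj (T.obj A)) := by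
  let _ := HasDerivedCategory.standard C'
  let _ := HasDerivedCategory.standard C''
  have := enoughInjectives_of_hasInjectiveResolutions C'
  let R := injectiveResolution A
  let K : CochainComplex.Plus C' :=
    ⟨(T.mapHomologicalComplex (ComplexShape.up ℤ)).obj R.cochainComplex, 0, inferInstance⟩
  have hK : ∀ i, RAcyclic S (K.obj.X i) := fun i => by
    rw [rAcyclic_iff]
    exact hT _ inferInstance
  let S₀ : CochainComplex.Plus C' :=
    ⟨(CochainComplex.singleFunctor C' 0).obj (T.obj A), 0, inferInstance⟩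
  let m : S₀.obj ⟶ K.obj :=
    (HomologicalComplex.singleMapHomologicalComplex T (ComplexShape.up ℤ) 0).inv.app A ≫
      (T.mapHomologicalComplex (ComplexShape.up ℤ)).map R.ι'
  have : QuasiIso m := by
    have : QuasiIso ((T.mapHomologicalComplex (ComplexShape.up ℤ)).map R.ι') := inferInstance
    exact quasiIso_comp _ _
  let e₁ : DerivedCategory.Plus.ι.obj ((DerivedCategory.Plus.singleFunctor C' 0).obj (T.obj A)) ≅
      DerivedCategory.Q.obj S₀.obj :=
    ((SingleFunctors.evaluation _ _ 0).mapIso
      (DerivedCategory.singleFunctorsPostcompQIso C')).app (T.obj A)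
  let e₂ : DerivedCategory.Plus.ι.obj (DerivedCategory.Plus.Q.obj S₀) ≅
      DerivedCategory.Q.obj S₀.obj :=
    (DerivedCategory.quotientCompQhIso C').app S₀.obj
  let e : (DerivedCategory.Plus.singleFunctor C' 0).obj (T.obj A) ≅ DerivedCategory.Plus.Q.obj K :=
    DerivedCategory.Plus.ι.preimageIso (e₁ ≪≫ e₂.symm) ≪≫ qIsoOfQuasiIso (K := S₀) (L := K) m
  obtain ⟨eK⟩ := nonempty_rdHn_acyclic K hK (n : ℤ)
  obtain ⟨eA⟩ := nonempty_rdSingle_iso S (T.obj A) n
  exact ⟨R.isoRightDerivedObj (T ⋙ S) n ≪≫
    ((((T ⋙ S).mapHomologicalComplex _).obj R.cocomplex).extendHomologyIso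
      ComplexShape.embeddingUpNat rfl).symm ≪≫
    (HomologicalComplex.homologyFunctor C'' _ (n : ℤ)).mapIso
      (mapExtendIso (T ⋙ S) R.cocomplex ComplexShape.embeddingUpNat).symm ≪≫
    eK.symm ≪≫ ((rdH S).shift (n : ℤ)).mapIso e.symm ≪≫ eA⟩

end Groth.Agent.SpecSeq
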