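import Groth.Agent.SpecSeq.RightDerivedPlus
import Mathlib.Algebra.Homology.HomotopyCategory.SpectralObject
import Mathlib.Algebra.Homology.Single

/-!
# The first page spectral sequence of a resolution

For a left exact functor `F` and a resolution `M → C^0 → C^1 → ...` there is a spectral sequence
with first page `R^q F (C^p)` and abutment `R^n F (M)`: it is the spectral sequence of the
complex `C` filtered by the subcomplexes of degrees `≥ a`.
-/

set_option autoImplicit false
set_option backward.isDefEq.respectTransparency false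
set_option backward.defeqAttrib.useBackward true

universe w w' v v' u u' u'' v''

open CategoryTheory CategoryTheory.Limits ZeroObject CategoryTheory.Pretriangulated CategoryTheory.ComposableArrows
  DerivedCategory

namespace Groth.Agent.SpecSeq

section Lift

variable {T : Type u} [Category.{v} T] [HasZeroObject T] [HasShift T ℤ] [Preadditive T]
  [∀ (n : ℤ), (shiftFunctor T n).Additive] [Pretriangulated T] (P : ObjectProperty T)
  [P.IsTriangulated] {ι : Type u''} [Category.{v''} ι]

/-- A spectral object with values in a triangulated subcategory. -/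
noncomputable def liftSpectralObject (X : Triangulated.SpectralObject T ι)
    (hX : ∀ f, P (X.ω₁.obj f)) : Triangulated.SpectralObject P.FullSubcategory ι where
  ω₁ := P.lift X.ω₁ hX
  δ' :=
    { app := fun D => P.ι.preimage (X.δ'.app D ≫ (P.ι.commShiftIso (1 : ℤ)).inv.app ((functorArrows ι 0 1 2 ⋙ P.lift X.ω₁ hX).obj D))
      naturality := fun D D' φ => by
        apply P.ι.map_injective
        refine (P.ι.map_comp _ _).trans (Eq.trans ?_ (P.ι.map_comp _ _).symm)
        refine (congrArg (_ ≫ ·) (P.ι.map_preimage _)).trans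
          (Eq.trans ?_ (congrArg (· ≫ _) (P.ι.map_preimage _)).symm)
        refine (Category.assoc _ _ _).symm.trans ?_
        refine (congrArg (· ≫ _) (X.δ'.naturality φ)).trans ?_
        refine (Category.assoc _ _ _).trans ?_
        refine (congrArg (_ ≫ ·) ((P.ι.commShiftIso (1 : ℤ)).inv.naturality
          ((functorArrows ι 0 1 2 ⋙ P.lift X.ω₁ hX).map φ))).trans (Category.assoc _ _ _).symm }
  distinguished' D := by
    rw [← P.ι.map_distinguished_iff]
    refine isomorphic_distinguished _ (X.distinguished' D) _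
      (Triangle.isoMk _ _ (Iso.refl _) (Iso.refl _) (Iso.refl _) ?_ ?_ ?_)
    · exact (Category.comp_id _).trans (Category.id_comp _).symm
    · exact (Category.comp_id _).trans (Category.id_comp _).symm
    · dsimp
      simp only [CategoryTheory.Functor.map_id, Category.comp_id, Category.id_comp]
      refine (congrArg (· ≫ _) (P.ι.map_preimage _)).trans ?_
      exact (Category.assoc _ _ _).trans ((congrArg (X.δ'.app D ≫ ·)
        ((P.ι.commShiftIso (1 : ℤ)).inv_hom_id_app _)).trans (Category.comp_id _))

end Lift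

section Filtration

variable {A : Type u} [Category.{v} A] [Abelian A]

/-- The degree `p` is in the step `t` of the filtration. -/
abbrev InStep (t : EInt) (p : ℤ) : Prop := ((-p : ℤ) : EInt) ≤ t

lemma inStep_mono {t : EInt} {p q : ℤ} (h : p ≤ q) (hp : InStep t p) : InStep t q :=
  le_trans (WithBotTop.coe_le_coe.2 (by lia)) hp

/-- The terms of the steps of the filtration. -/
noncomputable abbrev filX (C : CochainComplex A ℤ) (t : EInt) (p : ℤ) : A :=
  ∐ fun _ : PLift (InStep t p) => C.X p

/-- The inclusion of the term of degree `p` in a step containing it. -/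
noncomputable abbrev filι (C : CochainComplex A ℤ) {t : EInt} {p : ℤ} (h : InStep t p) :
    C.X p ⟶ filX C t p :=
  Sigma.ι (fun _ : PLift (InStep t p) => C.X p) ⟨h⟩

variable (C : CochainComplex A ℤ)

open scoped Classical in
/-- The differential of a step of the filtration. -/
noncomputable def filD (t : EInt) (p q : ℤ) : filX C t p ⟶ filX C t q :=
  Sigma.desc fun h => if hpq : p ≤ q then C.d p q ≫ filι C (inStep_mono hpq h.down) else 0

@[reassoc]
lemma filι_filD (t : EInt) (p q : ℤ) (h : InStep t p) (hpq : p ≤ q) :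
    filι C h ≫ filD C t p q = C.d p q ≫ filι C (inStep_mono hpq h) := by
  simp [filD, hpq]

/-- The steps of the filtration. -/
noncomputable def filObj (t : EInt) : CochainComplex A ℤ where
  X := filX C t
  d := filD C t
  shape p q hpq := Sigma.hom_ext _ _ fun h => by
    by_cases hle : p ≤ q <;> simp [filD, hle, C.shape p q hpq]
  d_comp_d' p q r hpq hqr := by
    have h₁ : p + 1 = q := hpq
    have h₂ : q + 1 = r := hqr
    refine Sigma.hom_ext _ _ fun h => ?_
    rw [filι_filD_assoc C t p q h.down (by lia), filι_filD C t q r _ (by lia),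
      HomologicalComplex.d_comp_d_assoc, zero_comp, comp_zero]

/-- The maps between the steps. -/
noncomputable def filMap {s t : EInt} (h : s ≤ t) : filObj C s ⟶ filObj C t where
  f p := Sigma.desc fun h' => filι C (h'.down.trans h)
  comm' p q hpq := Sigma.hom_ext _ _ fun h' => by
    have h₁ : p + 1 = q := hpq
    change _ ≫ _ ≫ filD C t p q = _ ≫ filD C s p q ≫ _
    rw [Sigma.ι_desc_assoc, filι_filD C t p q _ (by lia), filι_filD_assoc C s p q h'.down (by lia),
      Sigma.ι_desc]

/-- The filtration of a complex by the degree. -/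
noncomputable def fil' : EInt ⥤ CochainComplex A ℤ where
  obj := filObj C
  map h := filMap C (leOfHom h)
  map_id _ := by
    ext p : 1
    exact Sigma.hom_ext _ _ fun h => by simp [filMap, filObj]
  map_comp _ _ := by
    ext p : 1
    exact Sigma.hom_ext _ _ fun h => by simp [filMap, filObj]

lemma isZero_filX (t : EInt) (p : ℤ) (h : InStep t p → IsZero (C.X p)) : IsZero (filX C t p) := by
  rw [IsZero.iff_id_eq_zero]
  exact Sigma.hom_ext _ _ fun h' => (h h'.down).eq_of_src _ _

lemma isIso_filMap_f {s t : EInt} (h : s ≤ t) (p : ℤ) (hp : InStep t p → InStep s p) :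
    IsIso ((filMap C h).f p) :=
  ⟨(Sigma.desc fun h' => filι C (hp h'.down) : filX C t p ⟶ filX C s p),
    Sigma.hom_ext _ _ fun h' => by simp [filMap]; exact (Category.comp_id _).symm,
    Sigma.hom_ext _ _ fun h' => by simp [filMap]; exact (Category.comp_id _).symm⟩

lemma isStrictlyGE_filObj (t : EInt) (m : ℤ)
    (h : ∀ p, p < m → InStep t p → IsZero (C.X p)) : (filObj C t).IsStrictlyGE m := by
  rw [CochainComplex.isStrictlyGE_iff]
  exact fun p hp => isZero_filX C t p (h p hp)

/-- The last step is everything. -/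
noncomputable def filToOrig (t : EInt) : filObj C t ⟶ C where
  f p := Sigma.desc fun _ => 𝟙 (C.X p)
  comm' p q hpq := Sigma.hom_ext _ _ fun h => by
    have h₁ : p + 1 = q := hpq
    change _ ≫ _ ≫ C.d p q = _ ≫ filD C t p q ≫ _
    rw [Sigma.ι_desc_assoc, Category.id_comp, filι_filD_assoc C t p q h.down (by lia),
      Sigma.ι_desc, Category.comp_id]

lemma isIso_filToOrig_f (t : EInt) (p : ℤ) (h : InStep t p) :
    IsIso ((filToOrig C t).f p) :=
  ⟨filι C h, Sigma.hom_ext _ _ fun h' => by
      simp [filToOrig]; exact (Category.comp_id _).symm,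
    by simp [filToOrig]⟩

/-- The projection to a graded piece. -/
noncomputable def filToSingle (p : ℤ) :
    filObj C ((-p : ℤ) : EInt) ⟶
      (HomologicalComplex.single A (ComplexShape.up ℤ) p).obj (C.X p) :=
  HomologicalComplex.mkHomToSingle ((filToOrig C _).f p) fun i hi => by
    have h₁ : i + 1 = p := hi
    exact (isZero_filX C _ i fun h => absurd h (by simp [InStep]; lia)).eq_of_src _ _

lemma filMap_filToSingle (p : ℤ) :
    filMap C (WithBotTop.coe_le_coe.2 (by lia : -p - 1 ≤ -p)) ≫ filToSingle C p = 0 := by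
  apply HomologicalComplex.to_single_hom_ext
  exact (isZero_filX C _ p fun h => absurd h (by simp [InStep])).eq_of_src _ _

lemma shortExact_filToSingle (p : ℤ) :
    (ShortComplex.mk _ _ (filMap_filToSingle C p)).ShortExact := by
  refine HomologicalComplex.shortExact_of_degreewise_shortExact _ fun n => ?_
  have hle : ((-p - 1 : ℤ) : EInt) ≤ ((-p : ℤ) : EInt) := WithBotTop.coe_le_coe.2 (by lia)
  by_cases hn : n = p
  · subst hn
    have hz : IsZero (filX C ((-n - 1 : ℤ) : EInt) n) :=
      isZero_filX C _ n fun h => absurd h (by simp [InStep])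
    have := isIso_filToOrig_f C ((-n : ℤ) : EInt) n le_rfl
    have : IsIso ((filToSingle C n).f n) := by
      rw [filToSingle, HomologicalComplex.mkHomToSingle_f]
      infer_instance
    exact
      { exact := (ShortComplex.exact_iff_mono _ (hz.eq_of_src _ _)).2
          (inferInstanceAs (Mono ((filToSingle C n).f n)))
        mono_f := ⟨fun _ _ _ => hz.eq_of_tgt _ _⟩
        epi_g := inferInstanceAs (Epi ((filToSingle C n).f n)) }
  · have hz := HomologicalComplex.isZero_single_obj_X (ComplexShape.up ℤ) p (C.X p) n hn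
    have : IsIso ((filMap C hle).f n) := isIso_filMap_f C hle n fun h => by
      simp [InStep] at h ⊢; lia
    exact
      { exact := (ShortComplex.exact_iff_epi _ (hz.eq_of_tgt _ _)).2
          (inferInstanceAs (Epi ((filMap C hle).f n)))
        mono_f := inferInstanceAs (Mono ((filMap C hle).f n))
        epi_g := ⟨fun _ _ _ => hz.eq_of_src _ _⟩ }

lemma shortExact_filToOrig {s : EInt} (hs : ∀ p, ¬ InStep s p) :
    (ShortComplex.mk (filMap C (le_top : s ≤ ⊤)) (filToOrig C ⊤)
      (HomologicalComplex.hom_ext _ _ fun p =>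
        (isZero_filX C s p fun h => absurd h (hs p)).eq_of_src _ _)).ShortExact := by
  refine HomologicalComplex.shortExact_of_degreewise_shortExact _ fun n => ?_
  have hz : IsZero (filX C s n) := isZero_filX C s n fun h => absurd h (hs n)
  have := isIso_filToOrig_f C ⊤ n le_top
  exact
    { exact := (ShortComplex.exact_iff_mono _ (hz.eq_of_src _ _)).2
        (inferInstanceAs (Mono ((filToOrig C ⊤).f n)))
      mono_f := ⟨fun _ _ _ => hz.eq_of_tgt _ _⟩
      epi_g := inferInstanceAs (Epi ((filToOrig C ⊤).f n)) }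

lemma shortExact_filMap_of_large (hC : C.IsStrictlyGE 0) {s t : EInt} (h : s ≤ t)
    (hs : ((0 : ℤ) : EInt) ≤ s) :
    (ShortComplex.mk (filMap C h) (0 : filObj C t ⟶ 0) comp_zero).ShortExact := by
  refine HomologicalComplex.shortExact_of_degreewise_shortExact _ fun n => ?_
  have hz : IsZero ((0 : CochainComplex A ℤ).X n) :=
    (HomologicalComplex.eval A (ComplexShape.up ℤ) n).map_isZero (isZero_zero _)
  have : IsIso ((filMap C h).f n) := by
    by_cases hn : n < 0
    · have hz' := C.isZero_of_isStrictlyGE 0 n hn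
      exact ⟨0, (isZero_filX C s n fun _ => hz').eq_of_src _ _,
        (isZero_filX C t n fun _ => hz').eq_of_src _ _⟩
    · exact isIso_filMap_f C h n fun _ => le_trans (WithBotTop.coe_le_coe.2 (by lia)) hs
  exact
    { exact := (ShortComplex.exact_iff_epi _ (hz.eq_of_tgt _ _)).2
        (inferInstanceAs (Epi ((filMap C h).f n)))
      mono_f := inferInstanceAs (Mono ((filMap C h).f n))
      epi_g := ⟨fun _ _ _ => hz.eq_of_src _ _⟩ }

variable [HasDerivedCategory.{w} A]

/-- The spectral object of the filtration in the derived category. -/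
noncomputable def filSpectralObjectD :
    Triangulated.SpectralObject (DerivedCategory A) EInt :=
  ((HomotopyCategory.spectralObjectMappingCone A).precomp (fil' C)).mapTriangulatedFunctor
    DerivedCategory.Qh

lemma plus_filSpectralObjectD (hC : C.IsStrictlyGE 0) (f : ComposableArrows EInt 1) :
    DerivedCategory.TStructure.t.plus ((filSpectralObjectD C).ω₁.obj f) := by
  refine ⟨-1, ?_⟩
  have h (t : EInt) : (filObj C t).IsStrictlyGE 0 :=
    isStrictlyGE_filObj C t 0 fun p hp _ => C.isZero_of_isStrictlyGE 0 p hp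
  have : (CochainComplex.mappingCone ((fil' C).map (f.map' 0 1))).IsStrictlyGE (-1) :=
    @CochainComplex.isStrictlyGE_mappingCone _ _ _ _ _ _ ((fil' C).map (f.map' 0 1)) 0 0 (-1)
      (h _) (h _) (by lia) (by lia)
  have : DerivedCategory.TStructure.t.IsGE
      (DerivedCategory.Q.obj (CochainComplex.mappingCone ((fil' C).map (f.map' 0 1)))) (-1) :=
    inferInstance
  exact @Triangulated.TStructure.isGE_of_iso _ _ _ _ _ _ _ DerivedCategory.TStructure.t _ _
    ((quotientCompQhIso A).symm.app _) (-1) this

/-- The spectral object of the filtration in `D⁺`. -/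
noncomputable def filSpectralObject (hC : C.IsStrictlyGE 0) :
    Triangulated.SpectralObject (DerivedCategory.Plus A) EInt :=
  liftSpectralObject DerivedCategory.TStructure.t.plus (filSpectralObjectD C)
    (plus_filSpectralObjectD C hC)

/-- The values of the spectral object, for short exact sequences. -/
noncomputable def omegaIso (hC : C.IsStrictlyGE 0) {s t : EInt} (h : s ≤ t)
    (Z : CochainComplex.Plus A) (g : filObj C t ⟶ Z.obj) (w : filMap C h ≫ g = 0)
    (hS : (ShortComplex.mk (filMap C h) g w).ShortExact) :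
    (filSpectralObject C hC).ω₁.obj (mk₁ (homOfLE h)) ≅ DerivedCategory.Plus.Q.obj Z :=
  have := CochainComplex.mappingCone.quasiIso_descShortComplex hS
  DerivedCategory.Plus.ι.preimageIso
    ((DerivedCategory.quotientCompQhIso A).app (CochainComplex.mappingCone (filMap C h)) ≪≫
      asIso (DerivedCategory.Q.map
        (CochainComplex.mappingCone.descShortComplex (ShortComplex.mk (filMap C h) g w))) ≪≫
      ((DerivedCategory.quotientCompQhIso A).app Z.obj).symm)

lemma isGE_omega (hC : C.IsStrictlyGE 0) (f : ComposableArrows EInt 1) (m : ℤ)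
    (hm : ∀ i, ∀ p, p < m + 1 → ¬ InStep (f.obj i) p) :
    ((filSpectralObject C hC).ω₁.obj f).IsGE m := by
  rw [← DerivedCategory.Plus.isGE_ι_obj_iff]
  have h (i) : (filObj C (f.obj i)).IsStrictlyGE (m + 1) :=
    isStrictlyGE_filObj C _ (m + 1) fun p hp h' => absurd h' (hm i p hp)
  have : (CochainComplex.mappingCone ((fil' C).map (f.map' 0 1))).IsStrictlyGE m :=
    @CochainComplex.isStrictlyGE_mappingCone _ _ _ _ _ _ ((fil' C).map (f.map' 0 1))
      (m + 1) (m + 1) m (h _) (h _) (by lia) (by lia)
  have : DerivedCategory.TStructure.t.IsGE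
      (DerivedCategory.Q.obj (CochainComplex.mappingCone ((fil' C).map (f.map' 0 1)))) m :=
    inferInstance
  exact @Triangulated.TStructure.isGE_of_iso _ _ _ _ _ _ _ DerivedCategory.TStructure.t _ _
    ((quotientCompQhIso A).symm.app _) m this

end Filtration

section Main

variable {A : Type u} [Category.{v} A] [Abelian A] [EnoughInjectives A] [HasInjectiveResolutions A]
  [HasDerivedCategory.{w} A]
  {B : Type u'} [Category.{v'} B] [Abelian B] [HasDerivedCategory.{w'} B] (F : A ⥤ B) [F.Additive]

omit [HasInjectiveResolutions A] in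
lemma isFiniteFiltered_fil (C : CochainComplex A ℤ) (hC : C.IsStrictlyGE 0) :
    IsFiniteFiltered (mapHomological (rdH F) (filSpectralObject C hC)) where
  low n := by
    refine ⟨-n - 3, fun i j hij hj => ?_⟩
    have := isGE_omega C hC (mk₁ (homOfLE hij)) (n + 1) (fun k p hp h' => by
      have hk : ((mk₁ (homOfLE hij)).obj k : EInt) ≤ ((-n - 3 : ℤ) : EInt) := by
        fin_cases k
        · exact hij.trans hj
        · exact hj
      have := WithBotTop.coe_le_coe.1 (h'.trans hk)
      lia)
    exact isLeftBounded_rdH F _ (n + 1) n (by lia)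
  high n := by
    refine ⟨0, fun i j hij hi => ?_⟩
    let Z : CochainComplex.Plus A := ⟨0, 0, inferInstance⟩
    refine IsZero.of_iso ?_ (((rdH F).shift n).mapIso
      (omegaIso C hC hij Z 0 comp_zero (shortExact_filMap_of_large C hC hij hi)))
    refine Functor.map_isZero _ (IsZero.of_full_of_faithful_of_isZero DerivedCategory.Plus.ι _ ?_)
    exact IsZero.of_iso ((DerivedCategory.Q (C := A)).map_isZero (isZero_zero _))
      ((DerivedCategory.quotientCompQhIso A).app (0 : CochainComplex A ℤ))

omit [EnoughInjectives A] [HasInjectiveResolutions A] in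
lemma nonempty_plusQ_single (p : ℤ) (M : A) :
    Nonempty (DerivedCategory.Plus.Q.obj
        (⟨(HomologicalComplex.single A (ComplexShape.up ℤ) p).obj M, p,
          inferInstanceAs ((CochainComplex.singleFunctor A p).obj M |>.IsStrictlyGE p)⟩ :
            CochainComplex.Plus A) ≅
      (DerivedCategory.Plus.singleFunctor A p).obj M) :=
  ⟨DerivedCategory.Plus.ι.preimageIso ((DerivedCategory.quotientCompQhIso A).app _ ≪≫
    ((SingleFunctors.evaluation _ _ p).mapIso
      (DerivedCategory.singleFunctorsPostcompQIso A)).symm.app M)⟩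

/-- The first page spectral sequence of a resolution. -/
theorem exists_resolution (C : CochainComplex A ℕ) (M : A)
    (π : (CochainComplex.single₀ A).obj M ⟶ C) [QuasiIso π] {H : ℤ → B} {X : ℤ → ℤ → B}
    (eH : ∀ n : ℕ, Nonempty ((F.rightDerived n).obj M ≅ H n))
    (zH : ∀ n : ℤ, n < 0 → IsZero (H n))
    (eX : ∀ p q : ℕ, Nonempty ((F.rightDerived q).obj (C.X p) ≅ X p q))
    (zX : ∀ p q : ℤ, ¬ (0 ≤ p ∧ 0 ≤ q) → IsZero (X p q)) :
    ∃ (E : CohomologicalSpectralSequence B 1) (a : SpSeq.Abutment E H),
      (∀ n, a.IsFinite n) ∧ SpSeq.IsBounded E ∧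
      ∀ p q : ℤ, Nonempty ((E.page 1 le_rfl).X (p, q) ≅ X p q) := by
  let Cz : CochainComplex A ℤ := C.extend ComplexShape.embeddingUpNat
  have hC : Cz.IsStrictlyGE 0 := inferInstance
  let Y := mapHomological (rdH F) (filSpectralObject Cz hC)
  have hY : IsFiniteFiltered Y := isFiniteFiltered_fil F Cz hC
  let S₀ : CochainComplex.Plus A :=
    ⟨(CochainComplex.singleFunctor A 0).obj M, 0, inferInstance⟩
  let L : CochainComplex.Plus A := ⟨Cz, 0, hC⟩
  let π' : S₀.obj ⟶ L.obj :=
    (HomologicalComplex.extendSingleIso (e := ComplexShape.embeddingUpNat) M (i := 0)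
      (i' := (0 : ℤ)) rfl).inv ≫
      HomologicalComplex.extendMap π ComplexShape.embeddingUpNat
  have : QuasiIso π' := by
    have : QuasiIso (HomologicalComplex.extendMap π ComplexShape.embeddingUpNat) :=
      (HomologicalComplex.quasiIso_extendMap_iff π ComplexShape.embeddingUpNat).2 inferInstance
    exact inferInstanceAs (QuasiIso (_ ≫ _))
  obtain ⟨e₀⟩ := nonempty_plusQ_single (A := A) 0 M
  have eT (n : ℤ) : Nonempty (total Y n ≅ H n) := by
    let e : total Y n ≅ rdSingle F n M := ((rdH F).shift n).mapIso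
      (omegaIso Cz hC (bot_le : (⊥ : EInt) ≤ ⊤) L (filToOrig Cz ⊤) _
          (shortExact_filToOrig Cz fun p h => by simp [InStep] at h) ≪≫
        (qIsoOfQuasiIso (K := S₀) (L := L) π').symm ≪≫ e₀)
    by_cases hn : 0 ≤ n
    · obtain ⟨k, rfl⟩ := Int.eq_ofNat_of_zero_le hn
      exact ⟨e ≪≫ (nonempty_rdSingle_iso F M k).some ≪≫ (eH k).some⟩
    · exact ⟨((isZero_rdSingle_of_neg F M n (by lia)).of_iso e).iso (zH n (by lia))⟩
  obtain ⟨a, ha⟩ := exists_abutment hY isExhaustiveData_coreE₁ (H := H) fun n => (eT n).some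
  refine ⟨_, a, ha, isBounded hY isExhaustiveData_coreE₁, fun p q => ?_⟩
  let Z : CochainComplex.Plus A := ⟨(HomologicalComplex.single A (ComplexShape.up ℤ) p).obj (Cz.X p),
    p, inferInstanceAs ((CochainComplex.singleFunctor A p).obj (Cz.X p) |>.IsStrictlyGE p)⟩
  obtain ⟨e₁⟩ := nonempty_plusQ_single (A := A) p (Cz.X p)
  let e : (((Y.spectralSequence coreE₁).page 1 le_rfl).X (p, q)) ≅ rdSingle F q (Cz.X p) :=
    Y.spectralSequenceFirstPageXIso coreE₁ (p, q) ((-p - 1 : ℤ) : EInt) ((-p : ℤ) : EInt)
        (by simp [coreE₁]) (by simp [coreE₁]) (p + q) rfl ≪≫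
      ((rdH F).shift (p + q)).mapIso
        (omegaIso Cz hC (WithBotTop.coe_le_coe.2 (by lia : -p - 1 ≤ -p)) Z (filToSingle Cz p) _
          (shortExact_filToSingle Cz p) ≪≫ e₁) ≪≫
      rdHnSingleIso F (p + q) p q (by lia) (Cz.X p)
  by_cases hpq : 0 ≤ p ∧ 0 ≤ q
  · obtain ⟨p', rfl⟩ := Int.eq_ofNat_of_zero_le hpq.1
    obtain ⟨q', rfl⟩ := Int.eq_ofNat_of_zero_le hpq.2
    exact ⟨e ≪≫ (nonempty_rdSingle_iso F _ q').some ≪≫
      (F.rightDerived q').mapIso (C.extendXIso ComplexShape.embeddingUpNat rfl) ≪≫ (eX p' q').some⟩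
  · refine ⟨(IsZero.of_iso ?_ e).iso (zX p q hpq)⟩
    by_cases hp : 0 ≤ p
    · exact isZero_rdSingle_of_neg F _ q (by simp_all)
    · exact Functor.map_isZero _ (Functor.map_isZero _ (Cz.isZero_of_isStrictlyGE 0 p (by lia)))

end Main

end Groth.Agent.SpecSeq
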