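import Groth.Agent.SpecSeq.HZero
import Groth.Agent.SpecSeq.Resolution

/-!
# The first page spectral sequence of a functor to complexes

If a functor `T` to complexes sends injective objects to complexes which are acyclic in positive
degrees, then there is a spectral sequence `R^q (T^p) A ⇒ R^{p+q} (H^0 ∘ T) A`.  It is the
spectral sequence of the resolution `H^0 T (I) → T^0 (I) → T^1 (I) → ...` in the category of
complexes, for an injective resolution `I` of `A` and the functor `H^0`.
-/

set_option autoImplicit false
set_option backward.isDefEq.respectTransparency false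
set_option backward.defeqAttrib.useBackward true

universe v v' u u'

open CategoryTheory CategoryTheory.Limits

namespace Groth.Agent.SpecSeq

variable {B : Type u} [Category.{v} B] [Abelian B] {A : Type u'} [Category.{v'} A] [Abelian A]
  (T : A ⥤ CochainComplex B ℕ) [T.Additive]

/-- The component of degree `p`. -/
abbrev degComp (p : ℕ) : A ⥤ B := T ⋙ HomologicalComplex.eval B (ComplexShape.up ℕ) p

/-- The inclusion of `H^0` in the terms of degree `0`. -/
noncomputable def hZeroι : T ⋙ hZero B ⟶ degComp T 0 where
  app a := (T.obj a).isoHomologyπ₀.inv ≫ (T.obj a).iCycles 0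
  naturality a b f := by
    change HomologicalComplex.homologyMap (T.map f) 0 ≫ (T.obj b).isoHomologyπ₀.inv ≫
        (T.obj b).iCycles 0 =
      ((T.obj a).isoHomologyπ₀.inv ≫ (T.obj a).iCycles 0) ≫ (T.map f).f 0
    rw [CochainComplex.isoHomologyπ₀_inv_naturality_assoc, HomologicalComplex.cyclesMap_i,
      Category.assoc]

/-- The differential, as a natural transformation. -/
def degD (p p' : ℕ) : degComp T p ⟶ degComp T p' where
  app a := (T.obj a).d p p'
  naturality _ _ f := (T.map f).comm p p'

variable (J : CochainComplex A ℕ)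

/-- The bicomplex, as a complex of complexes. -/
noncomputable def biCx : CochainComplex (CochainComplex B ℕ) ℕ where
  X p := ((degComp T p).mapHomologicalComplex _).obj J
  d p p' := (NatTrans.mapHomologicalComplex (degD T p p') _).app J
  shape p p' h := by
    ext q
    exact (T.obj (J.X q)).shape p p' h
  d_comp_d' p p' p'' _ _ := by
    ext q
    exact (T.obj (J.X q)).d_comp_d p p' p''

/-- The complex of the `H^0`. -/
noncomputable abbrev biBase : CochainComplex B ℕ := ((T ⋙ hZero B).mapHomologicalComplex _).obj J

lemma hZeroι_degD : hZeroι T ≫ degD T 0 1 = 0 := by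
  ext a
  simp [hZeroι, degD]

/-- The augmentation. -/
noncomputable def biπ : (CochainComplex.single₀ _).obj (biBase T J) ⟶ biCx T J :=
  (CochainComplex.fromSingle₀Equiv _ _).symm
    ⟨(NatTrans.mapHomologicalComplex (hZeroι T) _).app J, by
      ext q
      exact NatTrans.congr_app (hZeroι_degD T) (J.X q)⟩

lemma quasiIso_biπ (hJ : ∀ q r : ℕ, IsZero ((T.obj (J.X q)).homology (r + 1))) :
    QuasiIso (biπ T J) := by
  constructor
  intro n
  cases n with
  | zero =>
    rw [CochainComplex.quasiIsoAt₀_iff, ShortComplex.quasiIso_iff_of_zeros]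
    · refine ⟨?_, ?_⟩
      · refine HomologicalComplex.exact_of_degreewise_exact _ fun q => ?_
        let K := T.obj (J.X q)
        have h : (ShortComplex.mk _ _ (K.iCycles_d 0 1)).Exact :=
          ShortComplex.exact_of_f_is_kernel _ (K.cyclesIsKernel 0 1 (by simp))
        refine (ShortComplex.exact_iff_of_iso ?_).1 h
        exact ShortComplex.isoMk K.isoHomologyπ₀ (Iso.refl _) (Iso.refl _)
          (by simp [biπ, CochainComplex.fromSingle₀Equiv, hZeroι, K])
          ((Category.id_comp _).trans (Category.comp_id _).symm)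
      · have : ∀ q, Mono (((NatTrans.mapHomologicalComplex (hZeroι T) (ComplexShape.up ℕ)).app J).f q) :=
          fun q => inferInstanceAs
            (Mono ((T.obj (J.X q)).isoHomologyπ₀.inv ≫ (T.obj (J.X q)).iCycles 0))
        have h := HomologicalComplex.mono_of_mono_f
          ((NatTrans.mapHomologicalComplex (hZeroι T) (ComplexShape.up ℕ)).app J) this
        simp [biπ, CochainComplex.fromSingle₀Equiv]
        exact h
    all_goals first | rfl | exact (biCx T J).shape 0 0 (by simp)
  | succ n =>
    rw [quasiIsoAt_iff_exactAt]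
    · rw [HomologicalComplex.exactAt_iff' _ n (n + 1) (n + 2) (by simp) (by simp)]
      refine HomologicalComplex.exact_of_degreewise_exact _ fun q => ?_
      have h := (HomologicalComplex.exactAt_iff_isZero_homology _ _).2 (hJ q n)
      rw [HomologicalComplex.exactAt_iff' _ n (n + 1) (n + 2) (by simp) (by simp)] at h
      exact h
    · exact CochainComplex.exactAt_succ_single_obj _ _

/-- The first page spectral sequence of a functor to complexes. -/
theorem exists_complexFunctor_pageOne [HasInjectiveResolutions A]
    [HasInjectiveResolutions (CochainComplex B ℕ)]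
    (hT : ∀ Q : A, Injective Q → ∀ q : ℕ, IsZero ((T.obj Q).homology (q + 1)))
    (M : A) {H : ℤ → B} {X : ℤ → ℤ → B}
    (eH : ∀ n : ℕ, Nonempty (((T ⋙ hZero B).rightDerived n).obj M ≅ H n))
    (zH : ∀ n : ℤ, n < 0 → IsZero (H n))
    (eX : ∀ p q : ℕ, Nonempty (((degComp T p).rightDerived q).obj M ≅ X p q))
    (zX : ∀ p q : ℤ, ¬ (0 ≤ p ∧ 0 ≤ q) → IsZero (X p q)) :
    ∃ (E : CohomologicalSpectralSequence B 1) (a : SpSeq.Abutment E H),
      (∀ n, a.IsFinite n) ∧ SpSeq.IsBounded E ∧
      ∀ p q : ℤ, Nonempty ((E.page 1 le_rfl).X (p, q) ≅ X p q) := by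
  let R := injectiveResolution M
  have := enoughInjectives_of_hasInjectiveResolutions (CochainComplex B ℕ)
  let _ := HasDerivedCategory.standard (CochainComplex B ℕ)
  let _ := HasDerivedCategory.standard B
  have := quasiIso_biπ T R.cocomplex fun q r => hT _ (R.injective q) r
  refine exists_resolution (hZero B) (biCx T R.cocomplex) (biBase T R.cocomplex) (biπ T R.cocomplex)
    (fun n => ?_) zH (fun p q => ?_) zX
  · obtain ⟨e⟩ := nonempty_rightDerived_hZero_iso n (biBase T R.cocomplex)
    obtain ⟨e'⟩ := eH n
    exact ⟨e ≪≫ (R.isoRightDerivedObj (T ⋙ hZero B) n).symm ≪≫ e'⟩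
  · obtain ⟨e⟩ := nonempty_rightDerived_hZero_iso q ((biCx T R.cocomplex).X p)
    obtain ⟨e'⟩ := eX p q
    exact ⟨e ≪≫ (R.isoRightDerivedObj (degComp T p) q).symm ≪≫ e'⟩

end Groth.Agent.SpecSeq
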