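import Mathlib.CategoryTheory.Sites.SheafCohomology.Cech
import Mathlib.Algebra.Category.Grp.AB
import Mathlib.Algebra.Homology.HomologicalComplexLimits
import Mathlib.Algebra.Homology.HomologicalComplexAbelian
import Mathlib.Algebra.Homology.GrothendieckAbelian
import Mathlib.CategoryTheory.Abelian.GrothendieckCategory.EnoughInjectives
import Mathlib.CategoryTheory.Abelian.Injective.Resolution

/-!
# The complex of values of presheaves on a simplicial formal coproduct is exact in the presheaf
-/

set_option autoImplicit false
set_option backward.isDefEq.respectTransparency false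
set_option backward.defeqAttrib.useBackward true

universe u v' u'

open CategoryTheory CategoryTheory.Limits Opposite

namespace Groth.Agent.SpecSeq

variable {C : Type u'} [Category.{v'} C] (K : SimplicialObject (FormalCoproduct.{u} C))

/-- The degree `n` of the complex as a limit functor. -/
noncomputable def evalCochainIso (n : ℕ) :
    FormalCoproduct.cochainComplexFunctor K (A := AddCommGrpCat.{u}) ⋙
        HomologicalComplex.eval AddCommGrpCat.{u} (ComplexShape.up ℕ) n ≅
      (Functor.whiskeringLeft _ _ AddCommGrpCat.{u}).obj
        (Discrete.functor fun i : (K.obj (op (SimplexCategory.mk n))).I =>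
          op ((K.obj (op (SimplexCategory.mk n))).obj i)) ⋙ lim :=
  NatIso.ofComponents
    (fun P => HasLimit.isoOfNatIso (Discrete.natIsoFunctor
      (F := Discrete.functor (fun i : (K.obj (op (SimplexCategory.mk n))).I =>
        op ((K.obj (op (SimplexCategory.mk n))).obj i)) ⋙ P)).symm)
    (fun {P Q} φ => by
      refine limit.hom_ext fun j => ?_
      simp [FormalCoproduct.cochainComplexFunctor, FormalCoproduct.cosimplicialObjectFunctor,
        Discrete.natIsoFunctor, AlgebraicTopology.alternatingCofaceMapComplex,
        AlgebraicTopology.AlternatingCofaceMapComplex.map, FormalCoproduct.evalOp]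
      exact Limits.Pi.map_π _ j.as)

instance cochainComplexFunctor_preservesFiniteLimits :
    PreservesFiniteLimits (FormalCoproduct.cochainComplexFunctor K (A := AddCommGrpCat.{u})) :=
  ⟨fun _ _ _ => HomologicalComplex.preservesLimitsOfShape_of_eval _ fun n =>
    preservesLimitsOfShape_of_natIso (evalCochainIso K n).symm⟩

instance cochainComplexFunctor_preservesFiniteColimits :
    PreservesFiniteColimits (FormalCoproduct.cochainComplexFunctor K (A := AddCommGrpCat.{u})) :=
  ⟨fun _ _ _ => HomologicalComplex.preservesColimitsOfShape_of_eval _ fun n => by
    have : PreservesFiniteColimits (lim : (Discrete (K.obj (op (SimplexCategory.mk n))).I ⥤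
        AddCommGrpCat.{u}) ⥤ AddCommGrpCat.{u}) :=
      HasExactLimitsOfShape.preservesFiniteColimits
    exact preservesColimitsOfShape_of_natIso (evalCochainIso K n).symm⟩

instance cochainComplexFunctor_additive :
    (FormalCoproduct.cochainComplexFunctor K (A := AddCommGrpCat.{u})).Additive :=
  Functor.additive_of_preserves_binary_products _

instance : (ComplexShape.up ℕ).HasNoLoop where
  not_rel_self i h := by simp at h

/-- Complexes of abelian groups have enough injectives. -/
instance hasInjectiveResolutions_cochainComplex :
    HasInjectiveResolutions (CochainComplex AddCommGrpCat.{u} ℕ) :=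
  have : IsGrothendieckAbelian.{u} (CochainComplex AddCommGrpCat.{u} ℕ) := inferInstance
  inferInstance

end Groth.Agent.SpecSeq
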