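import Groth.Agent.SpecSeq.AcyclicQuasiIso
import Mathlib.CategoryTheory.Preadditive.Injective.Resolution

/-!
# Natural transformations of exact functors on resolutions
-/

set_option autoImplicit false
set_option backward.isDefEq.respectTransparency false
set_option backward.defeqAttrib.useBackward true

universe v v' u u'

open CategoryTheory CategoryTheory.Limits

namespace Groth.Agent.SpecSeq

variable {C : Type u} [Category.{v} C] [Abelian C] {D : Type u'} [Category.{v'} D] [Abelian D]

/-- A natural transformation of exact functors which is invertible on an object is a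
quasi-isomorphism on its resolutions. -/
theorem quasiIso_natTrans_resolution {T T' : C ⥤ D} [T.Additive] [T'.Additive]
    [PreservesFiniteLimits T] [PreservesFiniteColimits T] [PreservesFiniteLimits T']
    [PreservesFiniteColimits T'] (θ : T ⟶ T') {M : C} [IsIso (θ.app M)]
    (R : InjectiveResolution M) :
    QuasiIso ((NatTrans.mapHomologicalComplex θ _).app R.cocomplex) := by
  let S := (CochainComplex.single₀ C).obj M
  have hS : ∀ i, IsIso (((NatTrans.mapHomologicalComplex θ _).app S).f i) := fun i => by
    rcases i with _ | i
    · exact inferInstanceAs (IsIso (θ.app M))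
    · have h := HomologicalComplex.isZero_single_obj_X (ComplexShape.up ℕ) 0 M (i + 1) (by simp)
      exact ⟨0, (T.map_isZero h).eq_of_src _ _, (T'.map_isZero h).eq_of_src _ _⟩
  have : IsIso ((NatTrans.mapHomologicalComplex θ _).app S) :=
    HomologicalComplex.Hom.isIso_of_components _
  have h₁ : QuasiIso ((T'.mapHomologicalComplex _).map R.ι) := inferInstance
  have h₂ : QuasiIso ((T.mapHomologicalComplex _).map R.ι) := inferInstance
  have h₃ : QuasiIso ((NatTrans.mapHomologicalComplex θ _).app S ≫
      (T'.mapHomologicalComplex _).map R.ι) := inferInstance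
  have h₄ : QuasiIso ((T.mapHomologicalComplex _).map R.ι ≫
      (NatTrans.mapHomologicalComplex θ _).app R.cocomplex) :=
    ((NatTrans.mapHomologicalComplex θ (ComplexShape.up ℕ)).naturality R.ι).symm ▸ h₃
  exact quasiIso_of_comp_left ((T.mapHomologicalComplex _).map R.ι)
    ((NatTrans.mapHomologicalComplex θ _).app R.cocomplex)

end Groth.Agent.SpecSeq
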