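import Groth.Agent.SpecSeq.Grothendieck
import Mathlib.Algebra.Homology.HomotopyCategory.Acyclic
import Mathlib.Algebra.Homology.HomotopyCategory.Plus

/-!
# Quasi-isomorphisms of bounded below complexes of acyclic objects
-/

set_option autoImplicit false
set_option backward.isDefEq.respectTransparency false
set_option backward.defeqAttrib.useBackward true

universe v v' u u'

open CategoryTheory CategoryTheory.Limits

namespace Groth.Agent.SpecSeq

variable {C : Type u} [Category.{v} C] [Abelian C]
  {D : Type u'} [Category.{v'} D] [Abelian D]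

/-- A map of complexes is a quasi-isomorphism iff its mapping cone is acyclic. -/
lemma quasiIso_iff_acyclic_mappingCone {K L : CochainComplex C ℤ} (φ : K ⟶ L) :
    QuasiIso φ ↔ (CochainComplex.mappingCone φ).Acyclic := by
  rw [← HomotopyCategory.quotient_obj_mem_subcategoryAcyclic_iff_acyclic,
    ← HomologicalComplex.mem_quasiIso_iff, ← HomotopyCategory.quotient_map_mem_quasiIso_iff,
    HomotopyCategory.quasiIso_eq_trW_subcategoryAcyclic]
  exact (HomotopyCategory.subcategoryAcyclic C).trW_iff_of_distinguished _
    (HomotopyCategory.mappingCone_triangleh_distinguished φ)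

omit [Abelian C] [Abelian D] in
lemma mapExtendIso_naturality {A : Type u} [Category.{v} A] [Preadditive A] [HasZeroObject A]
    {B : Type u'} [Category.{v'} B] [Preadditive B] [HasZeroObject B] (F : A ⥤ B) [F.Additive]
    {K L : CochainComplex A ℕ} (φ : K ⟶ L) :
    (F.mapHomologicalComplex _).map (HomologicalComplex.extendMap φ ComplexShape.embeddingUpNat) ≫
        (mapExtendIso F L ComplexShape.embeddingUpNat).hom =
      (mapExtendIso F K ComplexShape.embeddingUpNat).hom ≫
        HomologicalComplex.extendMap ((F.mapHomologicalComplex _).map φ) ComplexShape.embeddingUpNat := by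
  ext n
  by_cases hn : ∃ k, ComplexShape.embeddingUpNat.f k = n
  · obtain ⟨k, hk⟩ := hn
    simp only [mapExtendIso, HomologicalComplex.comp_f, HomologicalComplex.Hom.isoOfComponents_hom_f,
      mapExtendXIso_eq F _ _ hk, HomologicalComplex.extendMap_f _ _ hk,
      Functor.mapHomologicalComplex_map_f, Iso.trans_hom, Functor.mapIso_hom, Iso.symm_hom,
      Category.assoc]
    rw [← F.map_comp_assoc]
    simp only [Category.assoc, Iso.inv_hom_id, Category.comp_id, F.map_comp, Iso.inv_hom_id_assoc]
  · exact (HomologicalComplex.isZero_extend_X _ _ n (fun k hk => hn ⟨k, hk⟩)).eq_of_tgt _ _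

variable [HasInjectiveResolutions C]

lemma rAcyclic_biprod [EnoughInjectives C] [HasDerivedCategory C] [HasDerivedCategory D]
    (F : C ⥤ D) [F.Additive] {X Y : C} (hX : RAcyclic F X) (hY : RAcyclic F Y) :
    RAcyclic F (X ⊞ Y) := by
  intro p hp
  have hS := (ShortComplex.Splitting.ofHasBinaryBiproduct X Y).shortExact
  obtain ⟨δ, hT⟩ := exists_plus_singleTriangle hS
  exact ((rdH F).homologySequence_exact₂ _ hT p).isZero_X₂
    ((hX p hp).eq_of_src _ _) ((hY p hp).eq_of_tgt _ _)

/-- A left exact functor sends a quasi-isomorphism of complexes of acyclic objects, indexed by `ℕ`,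
to a quasi-isomorphism. -/
theorem quasiIso_map_of_acyclic (F : C ⥤ D) [F.Additive] [PreservesFiniteLimits F]
    {K L : CochainComplex C ℕ} (φ : K ⟶ L) [QuasiIso φ]
    (hK : ∀ i q : ℕ, 0 < q → IsZero ((F.rightDerived q).obj (K.X i)))
    (hL : ∀ i q : ℕ, 0 < q → IsZero ((F.rightDerived q).obj (L.X i))) :
    QuasiIso ((F.mapHomologicalComplex _).map φ) := by
  let _ := HasDerivedCategory.standard C
  let _ := HasDerivedCategory.standard D
  have := enoughInjectives_of_hasInjectiveResolutions C
  let e := ComplexShape.embeddingUpNat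
  let ψ : K.extend e ⟶ L.extend e := HomologicalComplex.extendMap φ e
  have hψ : QuasiIso ψ := inferInstanceAs (QuasiIso (HomologicalComplex.extendMap φ e))
  have hz : ∀ (M : CochainComplex C ℕ), (∀ i q : ℕ, 0 < q → IsZero ((F.rightDerived q).obj (M.X i))) →
      ∀ (i : ℤ) (q : ℕ), 0 < q → IsZero ((F.rightDerived q).obj ((M.extend e).X i)) := by
    intro M hM i q hq
    by_cases h : 0 ≤ i
    · obtain ⟨k, rfl⟩ := Int.eq_ofNat_of_zero_le h
      exact (hM k q hq).of_iso ((F.rightDerived q).mapIso (M.extendXIso e (i := k) rfl))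
    · exact (rAcyclic_iff F _).1 (rAcyclic_of_isZero F (M.isZero_extend_X e i fun k hk => h (by
        simp [e] at hk
        omega))) q hq
  have : (CochainComplex.mappingCone ψ).IsStrictlyGE (-1) :=
    CochainComplex.isStrictlyGE_mappingCone ψ 0 0 (-1)
  have hcone := acyclic_map (F := F) (CochainComplex.mappingCone ψ) (-1)
    ((quasiIso_iff_acyclic_mappingCone ψ).1 hψ) (fun i => (rAcyclic_iff F _).2 fun q hq =>
      ((rAcyclic_iff F _).1 (rAcyclic_biprod F ((rAcyclic_iff F _).2 (hz K hK (i + 1)))
        ((rAcyclic_iff F _).2 (hz L hL i))) q hq).of_iso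
        ((F.rightDerived q).mapIso (HomologicalComplex.homotopyCofiber.XIsoBiprod ψ i (i + 1) rfl)))
  have hcone' : (CochainComplex.mappingCone ((F.mapHomologicalComplex _).map ψ)).Acyclic :=
    fun i => (hcone i).of_iso (CochainComplex.mappingCone.mapHomologicalComplexIso ψ F)
  have : QuasiIso ((F.mapHomologicalComplex _).map ψ) :=
    (quasiIso_iff_acyclic_mappingCone _).2 hcone'
  have hsq : (F.mapHomologicalComplex _).map ψ ≫ (mapExtendIso F L e).hom =
      (mapExtendIso F K e).hom ≫ HomologicalComplex.extendMap ((F.mapHomologicalComplex _).map φ) e :=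
    mapExtendIso_naturality F φ
  have : QuasiIso ((mapExtendIso F K e).hom ≫
      HomologicalComplex.extendMap ((F.mapHomologicalComplex _).map φ) e) := hsq ▸ inferInstance
  have := quasiIso_of_comp_left (mapExtendIso F K e).hom
    (HomologicalComplex.extendMap ((F.mapHomologicalComplex _).map φ) e)
  exact (HomologicalComplex.quasiIso_extendMap_iff _ e).1 this

end Groth.Agent.SpecSeq
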