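import Groth.Prelude.Def_SpSeq
import Mathlib.CategoryTheory.Abelian.Exact

/-!
# Consequences of an abutment: classes of objects and degeneration to one column
-/

set_option autoImplicit false

universe v u

open CategoryTheory CategoryTheory.Limits

namespace Groth.Agent.SpecSeq

variable {C : Type u} [Category.{v} C] [Abelian C]

/-- A class `P` of small objects inside a class `Q` stable under kernels and cokernels. -/
structure ClassPair (P Q : C → Prop) : Prop where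
  le : ∀ M, P M → Q M
  isoP : ∀ {M N}, (M ≅ N) → P M → P N
  isoQ : ∀ {M N}, (M ≅ N) → Q M → Q N
  zeroP : ∀ M, IsZero M → P M
  kerP : ∀ {M N} (φ : M ⟶ N), P M → Q N → P (kernel φ)
  cokerP : ∀ {M N} (φ : M ⟶ N), Q M → P N → P (cokernel φ)
  kerQ : ∀ {M N} (φ : M ⟶ N), Q M → Q N → Q (kernel φ)
  cokerQ : ∀ {M N} (φ : M ⟶ N), Q M → Q N → Q (cokernel φ)
  extP : ∀ S : ShortComplex C, S.ShortExact → P S.X₁ → P S.X₃ → P S.X₂

variable {P Q : C → Prop} (h : ClassPair P Q)

include h in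
theorem ClassPair.homology (S : ShortComplex C) (h₁ : Q S.X₁) (h₂ : Q S.X₂) (h₃ : Q S.X₃) :
    Q S.homology ∧ (P S.X₂ → P S.homology) := by
  let d := ShortComplex.LeftHomologyData.ofHasKernelOfHasCokernel S
  refine ⟨h.isoQ d.homologyIso.symm (h.cokerQ _ h₁ (h.kerQ _ h₂ h₃)), fun hP => ?_⟩
  exact h.isoP d.homologyIso.symm (h.cokerP _ h₁ (h.kerP _ hP h₃))

variable (E : E₂CohomologicalSpectralSequence C)

include h in
theorem page_classes (hQ : ∀ pq, Q ((E.page 2 le_rfl).X pq)) (r : ℤ) (hr : 2 ≤ r) (pq : ℤ × ℤ) :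
    Q ((E.page r hr).X pq) ∧ (P ((E.page 2 le_rfl).X pq) → P ((E.page r hr).X pq)) := by
  obtain ⟨k, rfl⟩ : ∃ k : ℕ, r = 2 + k := ⟨(r - 2).toNat, by lia⟩
  induction k generalizing pq with
  | zero => exact ⟨h.isoQ (E.pageXIsoOfEq pq 2 _ (by simp) le_rfl) (hQ pq),
      fun hP => h.isoP (E.pageXIsoOfEq pq 2 _ (by simp) le_rfl) hP⟩
  | succ k ih =>
    have e := E.iso (2 + (k : ℤ)) (2 + ((k + 1 : ℕ) : ℤ)) pq (by push_cast; lia) (by lia)
    have hk : (2 : ℤ) ≤ 2 + (k : ℤ) := by lia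
    have ihq : ∀ x, Q ((E.page (2 + (k : ℤ)) hk).X x) := fun x => (ih x hk).1
    obtain ⟨hq, hp⟩ := h.homology ((E.page (2 + (k : ℤ)) hk).sc pq) (ihq _) (ihq _) (ihq _)
    exact ⟨h.isoQ e hq, fun hP => h.isoP e (hp ((ih pq hk).2 hP))⟩

variable {H : ℤ → C} (a : SpSeq.Abutment E H)

theorem shortExact_fil (n p : ℤ) :
    (ShortComplex.mk ((a.fil n (p + 1)).ofLE (a.fil n p) (a.anti n (Int.le_add_one le_rfl)))
      (cokernel.π _) (cokernel.condition _)).ShortExact :=
  { exact := ShortComplex.exact_cokernel _ }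

include h in
/-- The abutment lies in `P` when the second page does on the diagonal. -/
theorem mem_of_abutment (n : ℤ) (hfin : a.IsFinite n) (hQ : ∀ pq, Q ((E.page 2 le_rfl).X pq))
    (hP : ∀ p, P ((E.page 2 le_rfl).X (p, n - p))) : P (H n) := by
  have hgr : ∀ p, P (SpSeq.grPiece (a.fil n) (a.anti n) p) := fun p => by
    have h1 : ∀ pq : ℤ × ℤ, P ((E.page 2 le_rfl).X pq) →
        P (SpSeq.grPiece (a.fil (pq.1 + pq.2)) (a.anti (pq.1 + pq.2)) pq.1) := fun pq hpq =>
      h.isoP (a.β pq) ((page_classes h E hQ _ (a.stat pq).1 pq).2 hpq)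
    have := h1 (p, n - p) (hP p)
    dsimp at this
    rwa [show p + (n - p) = n by lia] at this
  obtain ⟨⟨a₀, ha⟩, b, hb⟩ := hfin
  change a.fil n a₀ = ⊤ at ha
  change a.fil n b = ⊥ at hb
  have hmain : ∀ (k : ℕ) (q : ℤ), q = b - k → P ((a.fil n q : C)) := fun k => by
    induction k with
    | zero =>
      intro q hq
      refine h.zeroP _ ?_
      rw [show q = b by simpa using hq, hb]
      exact IsZero.of_iso (isZero_zero _) Subobject.botCoeIsoZero
    | succ k ih =>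
      intro q hq
      exact h.extP _ (shortExact_fil E a n q) (ih (q + 1) (by push_cast at hq; lia)) (hgr _)
  have htop : ∀ q, q ≤ a₀ → a.fil n q = ⊤ := fun q hq =>
    top_le_iff.1 (ha ▸ a.anti n hq)
  have := hmain (b - min a₀ b).toNat _ rfl
  rw [htop _ (by lia)] at this
  exact h.isoP (asIso ((⊤ : Subobject (H n)).arrow)) this

theorem isZero_page (pq : ℤ × ℤ) (hz : IsZero ((E.page 2 le_rfl).X pq)) (r : ℤ) (hr : 2 ≤ r) :
    IsZero ((E.page r hr).X pq) := by
  obtain ⟨k, rfl⟩ : ∃ k : ℕ, r = 2 + k := ⟨(r - 2).toNat, by lia⟩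
  induction k with
  | zero => exact hz.of_iso (E.pageXIsoOfEq pq _ 2 (by simp) hr)
  | succ k ih =>
    refine IsZero.of_iso ?_ (E.iso (2 + (k : ℤ)) _ pq (by push_cast; lia) (by lia)).symm
    exact (ShortComplex.exact_iff_isZero_homology _).1 (ShortComplex.exact_of_isZero_X₂
      ((E.page (2 + (k : ℤ)) (by lia)).sc pq) (ih (by lia)))

theorem nonempty_page_iso_of_column (hz : ∀ p q : ℤ, p ≠ 0 → IsZero ((E.page 2 le_rfl).X (p, q)))
    (q : ℤ) (r : ℤ) (hr : 2 ≤ r) :
    Nonempty ((E.page 2 le_rfl).X (0, q) ≅ (E.page r hr).X (0, q)) := by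
  obtain ⟨k, rfl⟩ : ∃ k : ℕ, r = 2 + k := ⟨(r - 2).toNat, by lia⟩
  induction k with
  | zero => exact ⟨E.pageXIsoOfEq (0, q) 2 _ (by simp) le_rfl⟩
  | succ k ih =>
    obtain ⟨e⟩ := ih (by lia)
    let K := E.page (2 + (k : ℤ)) (by lia)
    have hd : ∀ i j, K.d i j = 0 := fun i j => by
      by_cases hi : i.1 = 0
      · by_cases hj : j.1 = 0
        · apply K.shape
          rintro rfl
          simp only [Prod.fst_add] at hj
          lia
        · exact (isZero_page E j (hz j.1 j.2 hj) _ _).eq_of_tgt _ _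
      · exact (isZero_page E i (hz i.1 i.2 hi) _ _).eq_of_src _ _
    exact ⟨e ≪≫ (ShortComplex.HomologyData.ofZeros (K.sc (0, q)) (hd _ _)
      (hd _ _)).left.homologyIso.symm ≪≫ E.iso (2 + (k : ℤ)) _ (0, q) (by push_cast; lia) (by lia)⟩

noncomputable def gr_congr {m n : ℤ} (e : m = n) (p : ℤ) :
    SpSeq.grPiece (a.fil m) (a.anti m) p ≅ SpSeq.grPiece (a.fil n) (a.anti n) p := by
  subst e; exact Iso.refl _

/-- A second page concentrated in the column `p = 0` gives the abutment. -/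
theorem nonempty_iso_of_column (n : ℤ) (hfin : a.IsFinite n)
    (hz : ∀ p q : ℤ, p ≠ 0 → IsZero ((E.page 2 le_rfl).X (p, q))) :
    Nonempty ((E.page 2 le_rfl).X (0, n) ≅ H n) := by
  have hgr : ∀ p, p ≠ 0 → IsZero (SpSeq.grPiece (a.fil n) (a.anti n) p) := fun p hp => by
    have h1 : ∀ pq : ℤ × ℤ, pq.1 ≠ 0 →
        IsZero (SpSeq.grPiece (a.fil (pq.1 + pq.2)) (a.anti (pq.1 + pq.2)) pq.1) := fun pq hpq =>
      (isZero_page E pq (hz pq.1 pq.2 hpq) _ _).of_iso (a.β pq).symm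
    have := h1 (p, n - p) hp
    dsimp at this
    rwa [show p + (n - p) = n by lia] at this
  have heq : ∀ p, p ≠ 0 → a.fil n (p + 1) = a.fil n p := fun p hp => by
    have hle := a.anti n (Int.le_add_one (le_refl p))
    have : Epi ((a.fil n (p + 1)).ofLE (a.fil n p) hle) :=
      Preadditive.epi_of_isZero_cokernel _ (hgr p hp)
    have : IsIso ((a.fil n (p + 1)).ofLE (a.fil n p) hle) := isIso_of_mono_of_epi _
    exact le_antisymm hle (Subobject.le_of_comm (inv ((a.fil n (p + 1)).ofLE (a.fil n p) hle))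
      (by rw [IsIso.inv_comp_eq, Subobject.ofLE_arrow]))
  obtain ⟨⟨a₀, ha⟩, b, hb⟩ := hfin
  change a.fil n a₀ = ⊤ at ha
  change a.fil n b = ⊥ at hb
  have h0 : a.fil n 0 = ⊤ := by
    have key : ∀ k : ℕ, a.fil n (-(k : ℤ)) = a.fil n 0 := fun k => by
      induction k with
      | zero => simp
      | succ k ih =>
        rw [← ih, show -(k : ℤ) = -((k + 1 : ℕ) : ℤ) + 1 by push_cast; lia]
        exact (heq _ (by lia)).symm
    rw [← key (-(min a₀ 0)).toNat]
    exact top_le_iff.1 (ha ▸ a.anti n (by lia))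
  have h1 : a.fil n (0 + 1) = ⊥ := by
    have key : ∀ k : ℕ, a.fil n (1 + (k : ℤ)) = a.fil n 1 := fun k => by
      induction k with
      | zero => simp
      | succ k ih =>
        rw [← ih, show 1 + ((k + 1 : ℕ) : ℤ) = 1 + (k : ℤ) + 1 by push_cast; lia]
        exact heq _ (by lia)
    rw [zero_add, ← key (max b 1 - 1).toNat]
    exact le_bot_iff.1 (hb ▸ a.anti n (by lia))
  obtain ⟨e⟩ := nonempty_page_iso_of_column E hz n (a.rk (0, n)) (a.stat (0, n)).1
  have e' : SpSeq.grPiece (a.fil n) (a.anti n) 0 ≅ H n := by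
    have : (a.fil n (0 + 1)).ofLE (a.fil n 0) (a.anti n (Int.le_add_one le_rfl)) = 0 := by
      apply IsZero.eq_of_src
      rw [h1]
      exact IsZero.of_iso (isZero_zero _) Subobject.botCoeIsoZero
    exact cokernelIsoOfEq this ≪≫ cokernelZeroIsoTarget ≪≫
      eqToIso (congrArg (fun S : Subobject (H n) => (S : C)) h0) ≪≫
        asIso ((⊤ : Subobject (H n)).arrow)
  exact ⟨e ≪≫ a.β (0, n) ≪≫ gr_congr E a (zero_add n) 0 ≪≫ e'⟩

end Groth.Agent.SpecSeq
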