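import Groth.Agent.SpecSeq.CompareHZero

/-!
# Cocycles and left exact functors
-/

set_option autoImplicit false
set_option backward.isDefEq.respectTransparency false
set_option backward.defeqAttrib.useBackward true

universe v v' v'' u u' u''

open CategoryTheory CategoryTheory.Limits

namespace Groth.Agent.SpecSeq

variable {B : Type u} [Category.{v} B] [Abelian B] {A : Type u'} [Category.{v'} A] [Abelian A]
  {D : Type u''} [Category.{v''} D] [Abelian D]
  (T : A ⥤ CochainComplex B ℕ) (L : B ⥤ D) [L.PreservesZeroMorphisms] [PreservesFiniteLimits L]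

/-- The comparison of cocycles. -/
noncomputable def cycLift (p : ℕ) :
    cycComp T p ⋙ L ⟶ cycComp (T ⋙ L.mapHomologicalComplex _) p where
  app a := ((L.mapHomologicalComplex _).obj (T.obj a)).liftCycles (L.map ((T.obj a).iCycles p))
    (p + 1) (by simp) (by simp [← L.map_comp])
  naturality a b f := by
    rw [← cancel_mono (HomologicalComplex.iCycles ((L.mapHomologicalComplex _).obj (T.obj b)) p)]
    let K := T.obj a
    let K' := T.obj b
    change (L.map (HomologicalComplex.cyclesMap (T.map f) p) ≫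
        ((L.mapHomologicalComplex _).obj K').liftCycles (L.map (K'.iCycles p)) (p + 1) _ _) ≫
          HomologicalComplex.iCycles ((L.mapHomologicalComplex _).obj K') p =
      (((L.mapHomologicalComplex _).obj K).liftCycles (L.map (K.iCycles p)) (p + 1) _ _ ≫
        HomologicalComplex.cyclesMap ((L.mapHomologicalComplex _).map (T.map f)) p) ≫
          HomologicalComplex.iCycles ((L.mapHomologicalComplex _).obj K') p
    rw [Category.assoc, Category.assoc, HomologicalComplex.liftCycles_i,
      HomologicalComplex.cyclesMap_i, HomologicalComplex.liftCycles_i_assoc]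
    exact (L.map_comp _ _).symm.trans
      ((congrArg (fun m => L.map m) (HomologicalComplex.cyclesMap_i (T.map f) p)).trans
        (L.map_comp _ _))

omit [Abelian A] [PreservesFiniteLimits L] in
lemma cycLift_iCycles (p : ℕ) (a : A) :
    (cycLift T L p).app a ≫ HomologicalComplex.iCycles ((L.mapHomologicalComplex _).obj (T.obj a)) p =
      L.map ((T.obj a).iCycles p) := by
  simp [cycLift]

instance isIso_cycLift_app (p : ℕ) (a : A) : IsIso ((cycLift T L p).app a) := by
  let K := T.obj a
  let K' := (L.mapHomologicalComplex _).obj K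
  have hl : IsLimit (KernelFork.ofι (L.map (K.iCycles p))
      (show L.map (K.iCycles p) ≫ L.map (K.d p (p + 1)) = 0 by simp [← L.map_comp])) :=
    KernelFork.mapIsLimit _ (K.cyclesIsKernel p (p + 1) (by simp)) L
  have : (cycLift T L p).app a =
      (IsLimit.conePointUniqueUpToIso hl (K'.cyclesIsKernel p (p + 1) (by simp))).hom := by
    rw [← cancel_mono (K'.iCycles p)]
    exact (cycLift_iCycles T L p a).trans
      (IsLimit.conePointUniqueUpToIso_hom_comp hl (K'.cyclesIsKernel p (p + 1) (by simp))
        WalkingParallelPair.zero).symm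
  rw [this]
  infer_instance

/-- Left exact functors commute with cocycles. -/
noncomputable def cycMapIso (p : ℕ) : cycComp T p ⋙ L ≅ cycComp (T ⋙ L.mapHomologicalComplex _) p :=
  NatIso.ofComponents (fun a => asIso ((cycLift T L p).app a)) fun f => (cycLift T L p).naturality f

/-- `H^0` is given by the cocycles of degree `0`. -/
noncomputable def hZeroCycIso : T ⋙ hZero B ≅ cycComp T 0 :=
  NatIso.ofComponents (fun a => (T.obj a).isoHomologyπ₀.symm) fun f =>
    CochainComplex.isoHomologyπ₀_inv_naturality (T.map f)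

section Lift

variable {P : A ⥤ B} (ε : P ⟶ degComp T 0) (hε : ∀ a, ε.app a ≫ (T.obj a).d 0 1 = 0)

/-- A map to the terms of degree `0` killed by the differential factors through the cocycles. -/
noncomputable def toCyc : P ⟶ cycComp T 0 where
  app a := (T.obj a).liftCycles (ε.app a) 1 (by simp) (hε a)
  naturality a b f := by
    refine (cancel_mono ((T.obj b).iCycles 0)).1 ?_
    change (P.map f ≫ (T.obj b).liftCycles (ε.app b) 1 _ (hε b)) ≫ (T.obj b).iCycles 0 =
      ((T.obj a).liftCycles (ε.app a) 1 _ (hε a) ≫ HomologicalComplex.cyclesMap (T.map f) 0) ≫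
        (T.obj b).iCycles 0
    rw [Category.assoc, Category.assoc, HomologicalComplex.liftCycles_i,
      HomologicalComplex.cyclesMap_i, HomologicalComplex.liftCycles_i_assoc]
    exact ε.naturality f

omit [Abelian A] in
lemma toCyc_iCycles (a : A) : (toCyc T ε hε).app a ≫ (T.obj a).iCycles 0 = ε.app a :=
  HomologicalComplex.liftCycles_i (T.obj a) (ε.app a) 1 (by simp) (hε a)

variable {T' : A ⥤ CochainComplex D ℕ} (τ : T ⋙ L.mapHomologicalComplex _ ⟶ T') {P' : A ⥤ D}
  (ε' : P' ⟶ degComp T' 0) (hε' : ∀ a, ε'.app a ≫ (T'.obj a).d 0 1 = 0)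

/-- Factorisations through the cocycles are compatible with maps of complexes. -/
lemma toCyc_cycMap (a : A) (r : L.obj (P.obj a) ⟶ P'.obj a)
    (w : L.map (ε.app a) ≫ (τ.app a).f 0 = r ≫ ε'.app a) :
    L.map ((toCyc T ε hε).app a) ≫ (cycLift T L 0).app a ≫ (cycMap τ 0).app a =
      r ≫ (toCyc T' ε' hε').app a := by
  refine (cancel_mono ((T'.obj a).iCycles 0)).1 ?_
  refine ((Category.assoc _ _ _).trans (congrArg (fun m => _ ≫ m) ((Category.assoc _ _ _).trans
    (congrArg (fun m => _ ≫ m) (HomologicalComplex.cyclesMap_i (τ.app a) 0))))).trans ?_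
  refine (congrArg (fun m => _ ≫ m) ((Category.assoc _ _ _).symm.trans
    (congrArg (fun m => m ≫ (τ.app a).f 0) (cycLift_iCycles T L 0 a)))).trans ?_
  refine ((Category.assoc _ _ _).symm.trans (congrArg (fun m => m ≫ (τ.app a).f 0)
    ((L.map_comp _ _).symm.trans (congrArg (fun m => L.map m) (toCyc_iCycles T ε hε a))))).trans ?_
  refine w.trans (Eq.trans ?_ (Category.assoc _ _ _).symm)
  exact congrArg (fun m => r ≫ m) (toCyc_iCycles T' ε' hε' a).symm

end Lift

lemma quasiIso_of_natSquare {F₁ F₂ F₃ F₄ F₅ : A ⥤ D}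
    [F₁.Additive] [F₂.Additive] [F₃.Additive] [F₄.Additive] [F₅.Additive]
    (α : F₁ ⟶ F₂) (β : F₂ ≅ F₃) (γ : F₃ ⟶ F₄) (ρ : F₁ ⟶ F₅) (ε : F₅ ⟶ F₄)
    (J : CochainComplex A ℕ) (w : ∀ Z, α.app Z ≫ β.hom.app Z ≫ γ.app Z = ρ.app Z ≫ ε.app Z)
    (hγ : QuasiIso ((NatTrans.mapHomologicalComplex γ _).app J))
    (hρ : QuasiIso ((NatTrans.mapHomologicalComplex ρ _).app J))
    (hε : ∀ i, IsIso (ε.app (J.X i))) :
    QuasiIso ((NatTrans.mapHomologicalComplex α _).app J) := by
  let a := (NatTrans.mapHomologicalComplex α (ComplexShape.up ℕ)).app J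
  let b := (NatTrans.mapHomologicalComplex β.hom (ComplexShape.up ℕ)).app J
  let c := (NatTrans.mapHomologicalComplex γ (ComplexShape.up ℕ)).app J
  let r := (NatTrans.mapHomologicalComplex ρ (ComplexShape.up ℕ)).app J
  let e := (NatTrans.mapHomologicalComplex ε (ComplexShape.up ℕ)).app J
  have hb : IsIso b := ((NatIso.mapHomologicalComplex β _).app J).isIso_hom
  have he : IsIso e := by
    have : ∀ i, IsIso (e.f i) := hε
    exact HomologicalComplex.Hom.isIso_of_components e
  have w' : a ≫ b ≫ c = r ≫ e := by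
    ext i : 1
    exact w (J.X i)
  have : QuasiIso (r ≫ e) := inferInstance
  have h : QuasiIso (a ≫ b ≫ c) := w' ▸ this
  exact quasiIso_of_comp_right a (b ≫ c)

/-- A degreewise quasi-isomorphism is one on cocycles. -/
lemma quasiIso_cycMap {B : Type u} [Category.{v} B] [Abelian B] {T T' : A ⥤ CochainComplex B ℕ}
    [T.Additive] [T'.Additive] (τ : T ⟶ T') {J : CochainComplex A ℕ}
    (hJ : ∀ q r : ℕ, IsZero ((T.obj (J.X q)).homology (r + 1)))
    (hJ' : ∀ q r : ℕ, IsZero ((T'.obj (J.X q)).homology (r + 1)))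
    (hτ : ∀ p, QuasiIso ((NatTrans.mapHomologicalComplex (degMap τ p) _).app J)) :
    QuasiIso ((NatTrans.mapHomologicalComplex (cycMap τ 0) _).app J) := by
  rw [quasiIso_iff]
  intro n
  rw [quasiIsoAt_iff_isIso_homologyMap]
  refine isIso_homologyMap_cycMap τ hJ hJ' (fun p q => ?_) n 0
  have := hτ p
  infer_instance

end Groth.Agent.SpecSeq
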