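import Groth.Prelude.Def_SpSeq
import Mathlib.Algebra.Homology.SpectralObject.SpectralSequence
import Mathlib.Algebra.Homology.SpectralObject.FirstPage
import Mathlib.Algebra.Homology.SpectralObject.EpiMono
import Mathlib.Data.Int.Interval
import Mathlib.Order.Interval.Finset.Basic

/-!
# Abutment of the spectral sequence of a spectral object indexed by `EInt`

If a spectral object `Y` indexed by `EInt` has, in every degree, a finite filtration, then the
spectral sequence attached to `Y` abuts to `H^n(⊥ ≤ ⊤)`, filtered by the images of the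
`H^n(⊥ ≤ t)`.
-/

set_option autoImplicit false

universe v u

open CategoryTheory CategoryTheory.Limits CategoryTheory.ComposableArrows

namespace Groth.Agent.SpecSeq

open CategoryTheory.Abelian CategoryTheory.Abelian.SpectralObject

variable {C : Type u} [Category.{v} C] [Abelian C] (Y : SpectralObject C EInt)

/-- In each degree the filtration of the spectral object is finite. -/
structure IsFiniteFiltered : Prop where
  low (n : ℤ) : ∃ a : ℤ, ∀ (i j : EInt) (hij : i ≤ j), j ≤ (a : EInt) →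
    IsZero ((Y.H n).obj (mk₁ (homOfLE hij)))
  high (n : ℤ) : ∃ b : ℤ, ∀ (i j : EInt) (hij : i ≤ j), (b : EInt) ≤ i →
    IsZero ((Y.H n).obj (mk₁ (homOfLE hij)))

/-- The total object `H^n(⊥ ≤ ⊤)`. -/
abbrev total (n : ℤ) : C := (Y.H n).obj (mk₁ (homOfLE (bot_le : (⊥ : EInt) ≤ ⊤)))

/-- The `t`-th step of the filtration of the total object. -/
noncomputable abbrev stepObj (n : ℤ) (t : EInt) : C :=
  Y.opcycles (homOfLE (bot_le : ⊥ ≤ t)) (homOfLE (le_top : t ≤ ⊤)) n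

/-- Its inclusion in the total object. -/
noncomputable abbrev stepι (n : ℤ) (t : EInt) : stepObj Y n t ⟶ total Y n :=
  Y.fromOpcycles (homOfLE (bot_le : ⊥ ≤ t)) (homOfLE (le_top : t ≤ ⊤)) (homOfLE bot_le) rfl n

/-- The transition maps. -/
noncomputable abbrev stepMap (n : ℤ) {s t : EInt} (hst : s ≤ t) : stepObj Y n s ⟶ stepObj Y n t :=
  Y.opcyclesMap _ _ _ _
    (threeδ₂Toδ₁ (homOfLE (bot_le : ⊥ ≤ s)) (homOfLE hst) (homOfLE (le_top : t ≤ ⊤))
      (homOfLE bot_le) (homOfLE le_top) rfl rfl) n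

lemma stepMap_stepι (n : ℤ) {s t : EInt} (hst : s ≤ t) :
    stepMap Y n hst ≫ stepι Y n t = stepι Y n s := by
  refine (Y.opcyclesMap_fromOpcycles _ _ _ _ (homOfLE bot_le) rfl (homOfLE bot_le) rfl _ (𝟙 _) n (by cat_disch) (by cat_disch)).trans ?_
  rw [CategoryTheory.Functor.map_id, Category.comp_id]

lemma stepι_isIso_of_isZero (n : ℤ) (t : EInt)
    (h : IsZero ((Y.H n).obj (mk₁ (homOfLE (le_top : t ≤ ⊤))))) : IsIso (stepι Y n t) :=
  Y.isIso_fromOpcycles _ _ _ _ n h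

section

variable {H : ℤ → C} (e : ∀ n, total Y n ≅ H n) (c : ℤ → ℤ)

/-- The filtration of the abutment. -/
noncomputable def fil (n p : ℤ) : Subobject (H n) :=
  Subobject.mk (stepι Y n (((c n - p : ℤ)) : EInt) ≫ (e n).hom)

lemma fil_anti (n : ℤ) : Antitone (fil Y e c n) := by
  intro p q h
  refine Subobject.mk_le_mk_of_comm (stepMap Y n (WithBotTop.coe_le_coe.2 (by lia))) ?_
  rw [← Category.assoc, stepMap_stepι]

/-- The graded pieces of the filtration are the limit terms. -/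
noncomputable def grPieceIso (n p : ℤ) (s t : EInt) (hs : s = ((c n - p - 1 : ℤ) : EInt))
    (ht : t = ((c n - p : ℤ) : EInt)) (hst : s ≤ t) :
    SpSeq.grPiece (fil Y e c n) (fil_anti Y e c n) p ≅
      Y.E (homOfLE (bot_le : ⊥ ≤ s)) (homOfLE hst) (homOfLE (le_top : t ≤ ⊤)) (n - 1) n (n + 1) := by
  have hS := Y.shortComplexOpcyclesThreeδ₂Toδ₁_shortExact (homOfLE (bot_le : ⊥ ≤ s)) (homOfLE hst)
    (homOfLE (le_top : t ≤ ⊤)) (homOfLE bot_le) (homOfLE le_top) rfl rfl (n - 1) n (n + 1)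
  subst ht
  obtain rfl : s = ((c n - (p + 1) : ℤ) : EInt) := by rw [hs]; congr 1; lia
  refine cokernel.mapIso _ (stepMap Y n hst) (Subobject.underlyingIso _) (Subobject.underlyingIso _) ?_ ≪≫
    IsColimit.coconePointUniqueUpToIso (cokernelIsCokernel _) hS.gIsCokernel
  rw [← cancel_mono (stepι Y n _ ≫ (e n).hom), Category.assoc, Category.assoc,
    reassoc_of% (stepMap_stepι Y n hst)]
  dsimp only [fil]
  rw [Subobject.underlyingIso_hom_comp_eq_mk, Subobject.underlyingIso_hom_comp_eq_mk]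
  exact Subobject.ofLE_arrow _

end

variable {r₀ : ℤ}
  (data : SpectralSequenceDataCore EInt (fun r ↦ ComplexShape.up' (⟨r, 1 - r⟩ : ℤ × ℤ)) r₀)
  [Y.HasSpectralSequence data]

/-- The properties of the recipe which are needed for the convergence. -/
structure IsExhaustiveData (c : ℤ → ℤ) : Prop where
  deg_eq (pq : ℤ × ℤ) : data.deg pq = pq.1 + pq.2
  i₁_eq (pq : ℤ × ℤ) : data.i₁ pq = ((c (pq.1 + pq.2) - pq.1 - 1 : ℤ) : EInt)
  i₂_eq (pq : ℤ × ℤ) : data.i₂ pq = ((c (pq.1 + pq.2) - pq.1 : ℤ) : EInt)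
  i₀_small (pq : ℤ × ℤ) (a : ℤ) : ∃ R : ℤ, ∀ (r : ℤ) (hr : r₀ ≤ r), R ≤ r → data.i₀ r pq ≤ (a : EInt)
  i₃_large (pq : ℤ × ℤ) (b : ℤ) : ∃ R : ℤ, ∀ (r : ℤ) (hr : r₀ ≤ r), R ≤ r → (b : EInt) ≤ data.i₃ r pq

variable {Y data}

lemma exists_stat (hY : IsFiniteFiltered Y) {c : ℤ → ℤ} (hd : IsExhaustiveData data c)
    (pq : ℤ × ℤ) :
    ∃ R : ℤ, ∃ hR : r₀ ≤ R, SpSeq.StationaryAt (Y.spectralSequence data) pq R ∧
      IsZero ((Y.H (data.deg pq + 1)).obj (mk₁ (homOfLE (bot_le : ⊥ ≤ data.i₀ R pq hR)))) ∧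
      IsZero ((Y.H (data.deg pq - 1)).obj (mk₁ (homOfLE (le_top : data.i₃ R pq hR ≤ ⊤)))) := by
  obtain ⟨a, ha⟩ := hY.low (data.deg pq + 1)
  obtain ⟨b, hb⟩ := hY.high (data.deg pq - 1)
  obtain ⟨R₁, h₁⟩ := hd.i₀_small pq a
  obtain ⟨R₂, h₂⟩ := hd.i₃_large pq b
  refine ⟨max r₀ (max R₁ R₂), le_max_left _ _, ⟨le_max_left _ _, fun r hr hRr => ⟨?_, ?_⟩⟩,
    ha _ _ _ (h₁ _ (le_max_left _ _) (by lia)), hb _ _ _ (h₂ _ (le_max_left _ _) (by lia))⟩
  · have hrel : (ComplexShape.up' (⟨r, 1 - r⟩ : ℤ × ℤ)).Rel (pq - (r, 1 - r)) pq := by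
      simp
    apply IsZero.eq_of_src
    refine Y.isZero_spectralSequence_page_X_of_isZero_H data r hr _ (data.deg pq - 1) ?_ _ _ rfl rfl
      (hb _ _ _ ?_)
    · have := data.hc r _ _ hrel; lia
    · rw [data.hc₁₃ r _ _ hrel]
      exact h₂ r hr (by lia)
  · have hrel : (ComplexShape.up' (⟨r, 1 - r⟩ : ℤ × ℤ)).Rel pq (pq + (r, 1 - r)) := by
      simp
    apply IsZero.eq_of_tgt
    refine Y.isZero_spectralSequence_page_X_of_isZero_H data r hr _ (data.deg pq + 1) ?_ _ _ rfl rfl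
      (ha _ _ _ ?_)
    · have := data.hc r _ _ hrel; lia
    · rw [← data.hc₀₂ r _ _ hrel]
      exact h₁ r hr (by lia)

/-- The limit term at a stationary position. -/
noncomputable def pageIsoLimit {R : ℤ} (hR : r₀ ≤ R) (pq : ℤ × ℤ) (n : ℤ) (hn : n = data.deg pq)
    (s t : EInt) (hs : s = data.i₁ pq) (ht : t = data.i₂ pq) (hst : s ≤ t)
    (h₀ : IsZero ((Y.H (n + 1)).obj (mk₁ (homOfLE (bot_le : ⊥ ≤ data.i₀ R pq hR)))))
    (h₃ : IsZero ((Y.H (n - 1)).obj (mk₁ (homOfLE (le_top : data.i₃ R pq hR ≤ ⊤))))) :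
    ((Y.spectralSequence data).page R hR).X pq ≅
      Y.E (homOfLE (bot_le : ⊥ ≤ s)) (homOfLE hst) (homOfLE (le_top : t ≤ ⊤)) (n - 1) n (n + 1) :=
  Y.spectralSequencePageXIso data R hR pq _ s t _ rfl hs ht rfl (n - 1) n (n + 1) hn ≪≫
    (Y.isoMapFourδ₁Toδ₀' ⊥ (data.i₀ R pq hR) s t (data.i₃ R pq hR) bot_le
      (data.le₀₁' R hR pq rfl hs) hst (data.le₂₃' R hR pq ht rfl) (n - 1) n (n + 1) h₀).symm ≪≫
    Y.isoMapFourδ₄Toδ₃' ⊥ s t (data.i₃ R pq hR) ⊤ bot_le hst (data.le₂₃' R hR pq ht rfl) le_top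
      (n - 1) n (n + 1) h₃

theorem exists_abutment (hY : IsFiniteFiltered Y) {c : ℤ → ℤ} (hd : IsExhaustiveData data c)
    {H : ℤ → C} (e : ∀ n, total Y n ≅ H n) :
    ∃ a : SpSeq.Abutment (Y.spectralSequence data) H, ∀ n, a.IsFinite n := by
  choose R hR hstat h₀ h₃ using exists_stat hY hd
  refine ⟨{ fil := fil Y e c
            anti := fil_anti Y e c
            rk := R
            stat := hstat
            β := fun pq => ?_ }, fun n => ⟨?_, ?_⟩⟩
  · have hn := hd.deg_eq pq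
    exact pageIsoLimit (hR pq) pq (pq.1 + pq.2) hn.symm _ _ (hd.i₁_eq pq).symm (hd.i₂_eq pq).symm
      (WithBotTop.coe_le_coe.2 (by lia)) (hn ▸ h₀ pq) (hn ▸ h₃ pq) ≪≫
      (grPieceIso Y e c (pq.1 + pq.2) pq.1 _ _ rfl rfl (WithBotTop.coe_le_coe.2 (by lia))).symm
  · obtain ⟨b, hb⟩ := hY.high n
    refine ⟨c n - b, ?_⟩
    have := stepι_isIso_of_isZero Y n ((c n - (c n - b) : ℤ) : EInt)
      (hb _ _ _ (WithBotTop.coe_le_coe.2 (by lia)))
    exact (Subobject.isIso_iff_mk_eq_top _).1 inferInstance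
  · obtain ⟨a, ha⟩ := hY.low n
    refine ⟨c n - a, ?_⟩
    exact Subobject.mk_eq_bot_iff_zero.2 ((Y.isZero_opcycles _ _ n
      (ha _ _ _ (WithBotTop.coe_le_coe.2 (by lia)))).eq_of_src _ _)

theorem isBounded (hY : IsFiniteFiltered Y) {c : ℤ → ℤ} (hd : IsExhaustiveData data c) :
    SpSeq.IsBounded (Y.spectralSequence data) := by
  intro n
  obtain ⟨a, ha⟩ := hY.low n
  obtain ⟨b, hb⟩ := hY.high n
  refine (Set.finite_Icc (c n - b) (c n - a)).subset fun p hp => ?_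
  by_contra h
  apply hp
  refine Y.isZero_spectralSequence_page_X_of_isZero_H' data r₀ le_rfl (p, n - p) ?_
  rw [Set.mem_Icc, not_and_or, not_le, not_le] at h
  have hn : data.deg (p, n - p) = n := by rw [hd.deg_eq]; dsimp; lia
  rw [hn]
  rcases h with h | h
  · refine hb _ _ _ ?_
    rw [hd.i₁_eq, WithBotTop.coe_le_coe]
    dsimp; rw [add_sub_cancel]; lia
  · refine ha _ _ _ ?_
    rw [hd.i₂_eq, WithBotTop.coe_le_coe]
    dsimp; rw [add_sub_cancel]; lia

lemma isExhaustiveData_coreE₂ : IsExhaustiveData coreE₂Cohomological (fun n => n + 1) where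
  deg_eq _ := rfl
  i₁_eq pq := by simp [coreE₂Cohomological]; lia
  i₂_eq pq := by simp [coreE₂Cohomological]; lia
  i₀_small pq a := ⟨pq.2 + 2 - a, fun r hr h => by simp [coreE₂Cohomological]; lia⟩
  i₃_large pq b := ⟨b + 1 - pq.2, fun r hr h => by simp [coreE₂Cohomological]; lia⟩

/-- The recipe for an `E₁` cohomological spectral sequence (filtration by columns). -/
@[simps!]
def coreE₁ : SpectralSequenceDataCore EInt (fun r ↦ ComplexShape.up' (⟨r, 1 - r⟩ : ℤ × ℤ)) 1 where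
  deg pq := pq.1 + pq.2
  i₀ r pq hr := (-pq.1 - r :)
  i₁ pq := (-pq.1 - 1 :)
  i₂ pq := (-pq.1 :)
  i₃ r pq hr := (-pq.1 + r - 1 :)
  le₀₁ r pq hr := by simp; lia
  le₁₂ pq := by simp
  le₂₃ r pq hr := by simp; lia
  hc := by rintro r pq _ rfl _; dsimp; lia
  hc₀₂ := by rintro r pq hr rfl _; simp; lia
  hc₁₃ := by rintro r pq hr rfl _; simp
  antitone_i₀ r r' pq hr hrr' := by simp; lia
  monotone_i₃ r r' pq hr hrr' := by simp; lia
  i₀_prev := by
    rintro r r' hr pq rfl _ _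
    dsimp
    lia +mbtc
  i₃_next := by
    rintro r r' hr pq rfl _ _
    dsimp
    lia +mbtc

instance coreE₁_hasSpectralSequence : Y.HasSpectralSequence coreE₁ where
  isZero_H_obj_mk₁_i₀_le r r' pq hpq n hn hrr' hr := absurd rfl (hpq _)
  isZero_H_obj_mk₁_i₃_le r r' pq hpq n hn hrr' hr :=
    absurd (by simp) (hpq (pq - (r, 1 - r)))

instance : coreE₁.HasFirstPageComputation where
  hi₀₁ pq := by simp only [coreE₁_i₀, coreE₁_i₁]
  hi₂₃ pq := by simp only [coreE₁_i₂, coreE₁_i₃]; lia +mbtc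

lemma isExhaustiveData_coreE₁ : IsExhaustiveData coreE₁ (fun _ => 0) where
  deg_eq _ := rfl
  i₁_eq pq := by simp
  i₂_eq pq := by simp
  i₀_small pq a := ⟨-pq.1 - a, fun r hr h => by simp; lia⟩
  i₃_large pq b := ⟨b + pq.1 + 1, fun r hr h => by simp; lia⟩

end Groth.Agent.SpecSeq
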