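import Groth.Agent.SpecSeq.Bicomplex
import Mathlib.Algebra.Homology.HomologySequenceLemmas

/-!
# Comparison of `H^0 ∘ T` for two functors to complexes

If `τ : T ⟶ T'` is degreewise a quasi-isomorphism on an injective resolution, and both functors
send the terms of the resolution to complexes which are exact in positive degrees, then the same is
true of `H^0 ∘ τ`.
-/

set_option autoImplicit false
set_option backward.isDefEq.respectTransparency false
set_option backward.defeqAttrib.useBackward true

universe v v' u u'

open CategoryTheory CategoryTheory.Limits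

namespace Groth.Agent.SpecSeq

variable {B : Type u} [Category.{v} B] [Abelian B] {A : Type u'} [Category.{v'} A] [Abelian A]
  (T T' : A ⥤ CochainComplex B ℕ) [T.Additive] [T'.Additive]

/-- The cocycles of degree `p`. -/
noncomputable abbrev cycComp (p : ℕ) : A ⥤ B := T ⋙ HomologicalComplex.cyclesFunctor B (ComplexShape.up ℕ) p

instance cycComp_additive (p : ℕ) : (cycComp T p).Additive where
  map_add {a b _ _} := by
    rw [← cancel_mono ((T.obj b).iCycles p)]
    simp [T.map_add]

/-- The inclusion of the cocycles. -/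
noncomputable def cycι (p : ℕ) : cycComp T p ⟶ degComp T p where
  app a := (T.obj a).iCycles p
  naturality _ _ f := HomologicalComplex.cyclesMap_i _ _

/-- The differential to the cocycles. -/
noncomputable def cycπ (p : ℕ) : degComp T p ⟶ cycComp T (p + 1) where
  app a := (T.obj a).toCycles p (p + 1)
  naturality a b f := by
    rw [← cancel_mono ((T.obj b).iCycles (p + 1))]
    simp

omit [Abelian A] [T.Additive] in
lemma cycι_cycπ (p : ℕ) : cycι T p ≫ cycπ T p = 0 := by
  ext a
  rw [← cancel_mono ((T.obj a).iCycles (p + 1))]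
  simp [cycι, cycπ]

variable (J : CochainComplex A ℕ)

/-- The short complex of cocycles. -/
noncomputable def cycShort (p : ℕ) : ShortComplex (CochainComplex B ℕ) :=
  ShortComplex.mk ((NatTrans.mapHomologicalComplex (cycι T p) _).app J)
    ((NatTrans.mapHomologicalComplex (cycπ T p) _).app J) (by
    ext q
    exact NatTrans.congr_app (cycι_cycπ T p) (J.X q))

variable {T J}

lemma shortExact_cycShort (hJ : ∀ q r : ℕ, IsZero ((T.obj (J.X q)).homology (r + 1))) (p : ℕ) :
    (cycShort T J p).ShortExact := by
  refine HomologicalComplex.shortExact_of_degreewise_shortExact _ fun q => ?_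
  let K := T.obj (J.X q)
  have hK : K.ExactAt (p + 1) := (HomologicalComplex.exactAt_iff_isZero_homology _ _).2 (hJ q p)
  have h : (ShortComplex.mk (K.iCycles p) (K.toCycles p (p + 1)) (by
      rw [← cancel_mono (K.iCycles (p + 1))]; simp)).ShortExact := {
    exact := by
      rw [ShortComplex.exact_iff_exact_up_to_refinements]
      intro A x hx
      refine ⟨A, 𝟙 A, inferInstance, K.liftCycles x (p + 1) (by simp) ?_, ?_⟩
      · rw [← K.toCycles_i p (p + 1), ← Category.assoc, hx, zero_comp]
      · simp
    mono_f := inferInstanceAs (Mono (K.iCycles p))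
    epi_g := by
      rw [HomologicalComplex.exactAt_iff_isZero_homology] at hK
      exact (ShortComplex.exact_iff_epi _ (hK.eq_of_tgt (K.homologyπ (p + 1)) 0)).1
        (ShortComplex.exact_of_g_is_cokernel
          (ShortComplex.mk _ _ (K.toCycles_comp_homologyπ p (p + 1)))
          (K.homologyIsCokernel p (p + 1) (by simp))) }
  exact h

variable {T'} (τ : T ⟶ T') (J)

/-- The map on cocycles. -/
noncomputable abbrev cycMap (p : ℕ) : cycComp T p ⟶ cycComp T' p :=
  Functor.whiskerRight τ _

/-- The map on terms. -/
noncomputable abbrev degMap (p : ℕ) : degComp T p ⟶ degComp T' p :=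
  Functor.whiskerRight τ _

/-- The map of short complexes of cocycles. -/
noncomputable def cycShortMap (p : ℕ) : cycShort T J p ⟶ cycShort T' J p where
  τ₁ := (NatTrans.mapHomologicalComplex (cycMap τ p) _).app J
  τ₂ := (NatTrans.mapHomologicalComplex (degMap τ p) _).app J
  τ₃ := (NatTrans.mapHomologicalComplex (cycMap τ (p + 1)) _).app J
  comm₁₂ := by
    ext q
    exact HomologicalComplex.cyclesMap_i (τ.app (J.X q)) p
  comm₂₃ := by
    ext q
    change _ ≫ (T'.obj (J.X q)).toCycles p (p + 1) = (T.obj (J.X q)).toCycles p (p + 1) ≫ _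
    rw [← cancel_mono ((T'.obj (J.X q)).iCycles (p + 1))]
    simp

variable {J}

open HomologicalComplex HomologySequence ComposableArrows in
/-- A degreewise quasi-isomorphism is one on cocycles. -/
theorem isIso_homologyMap_cycMap
    (hJ : ∀ q r : ℕ, IsZero ((T.obj (J.X q)).homology (r + 1)))
    (hJ' : ∀ q r : ℕ, IsZero ((T'.obj (J.X q)).homology (r + 1)))
    (hτ : ∀ p q : ℕ, IsIso (HomologicalComplex.homologyMap
      ((NatTrans.mapHomologicalComplex (degMap τ p) _).app J) q))
    (n p : ℕ) : IsIso (HomologicalComplex.homologyMap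
      ((NatTrans.mapHomologicalComplex (cycMap τ p) _).app J) n) := by
  have h₁ := fun p => shortExact_cycShort hJ p
  have h₂ := fun p => shortExact_cycShort hJ' p
  have h0 : ∀ p, IsIso (HomologicalComplex.homologyMap (cycShortMap J τ p).τ₂ n) := fun p => hτ p n
  induction n generalizing p with
  | zero =>
    have hmono : ∀ p, Mono (homologyMap (cycShortMap J τ p).τ₁ 0) := fun p => by
      have := (h₁ p).mono_f
      have := mono_homologyMap_of_mono_of_not_rel (cycShort T J p).f 0 (fun i => by simp)
      have := h0 p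
      have e : homologyMap (cycShortMap J τ p).τ₁ 0 ≫ homologyMap (cycShort T' J p).f 0 =
          homologyMap (cycShort T J p).f 0 ≫ homologyMap (cycShortMap J τ p).τ₂ 0 := by
        rw [← homologyMap_comp, ← homologyMap_comp, (cycShortMap J τ p).comm₁₂]
      exact mono_of_mono_fac e
    have : Mono (homologyMap (cycShortMap J τ p).τ₁ 0) := hmono p
    have : Epi (homologyMap (cycShortMap J τ p).τ₁ 0) := by
      have := (h₂ p).mono_f
      have := h0 p
      exact ShortComplex.epi_of_mono_of_epi_of_mono
        ((homologyFunctor B (ComplexShape.up ℕ) 0).mapShortComplex.map (cycShortMap J τ p))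
        ((h₁ p).homology_exact₂ 0)
        (mono_homologyMap_of_mono_of_not_rel (cycShort T' J p).f 0 (fun i => by simp))
        (inferInstanceAs (Epi (homologyMap (cycShortMap J τ p).τ₂ 0))) (hmono (p + 1))
    change IsIso (homologyMap (cycShortMap J τ p).τ₁ 0)
    exact isIso_of_mono_of_epi _
  | succ n ih =>
    have ih' : ∀ p, IsIso (homologyMap (cycShortMap J τ p).τ₃ n) := fun p =>
      ih (p + 1) fun p => hτ p n
    have hr : (ComplexShape.up ℕ).Rel n (n + 1) := rfl
    have hmono : ∀ p, Mono (homologyMap (cycShortMap J τ p).τ₁ (n + 1)) := fun p => by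
      have : IsIso (homologyMap (cycShortMap J τ p).τ₂ n) := hτ p n
      have : IsIso (homologyMap (cycShortMap J τ p).τ₂ (n + 1)) := hτ p (n + 1)
      have := ih' p
      exact Abelian.mono_of_epi_of_mono_of_mono
        ((δ₀Functor ⋙ δlastFunctor).map
          (mapComposableArrows₅ (cycShortMap J τ p) (h₁ p) (h₂ p) n (n + 1) hr))
        (composableArrows₅_exact (h₁ p) n (n + 1) hr).δ₀.δlast
        (composableArrows₅_exact (h₂ p) n (n + 1) hr).δ₀.δlast
        (inferInstanceAs (Epi (homologyMap (cycShortMap J τ p).τ₂ n)))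
        (inferInstanceAs (Mono (homologyMap (cycShortMap J τ p).τ₃ n)))
        (inferInstanceAs (Mono (homologyMap (cycShortMap J τ p).τ₂ (n + 1))))
    have : Mono (homologyMap (cycShortMap J τ p).τ₁ (n + 1)) := hmono p
    have : Epi (homologyMap (cycShortMap J τ p).τ₁ (n + 1)) := by
      have : IsIso (homologyMap (cycShortMap J τ p).τ₂ (n + 1)) := hτ p (n + 1)
      have := ih' p
      exact Abelian.epi_of_epi_of_epi_of_mono
        ((δ₀Functor ⋙ δ₀Functor).map
          (mapComposableArrows₅ (cycShortMap J τ p) (h₁ p) (h₂ p) n (n + 1) hr))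
        (composableArrows₅_exact (h₁ p) n (n + 1) hr).δ₀.δ₀
        (composableArrows₅_exact (h₂ p) n (n + 1) hr).δ₀.δ₀
        (inferInstanceAs (Epi (homologyMap (cycShortMap J τ p).τ₃ n)))
        (inferInstanceAs (Epi (homologyMap (cycShortMap J τ p).τ₂ (n + 1))))
        (hmono (p + 1))
    change IsIso (homologyMap (cycShortMap J τ p).τ₁ (n + 1))
    exact isIso_of_mono_of_epi _

/-- `H^0 ∘ T` and `H^0 ∘ T'` have the same right derived functors at `M`. -/
theorem nonempty_rightDerived_hZero_congr [HasInjectiveResolutions A] {M : A}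
    (R : InjectiveResolution M)
    (hT : ∀ Q : A, Injective Q → ∀ q : ℕ, IsZero ((T.obj Q).homology (q + 1)))
    (hT' : ∀ Q : A, Injective Q → ∀ q : ℕ, IsZero ((T'.obj Q).homology (q + 1)))
    (hτ : ∀ p q : ℕ, IsIso (HomologicalComplex.homologyMap
      ((NatTrans.mapHomologicalComplex (degMap τ p) _).app R.cocomplex) q)) (n : ℕ) :
    Nonempty (((T ⋙ hZero B).rightDerived n).obj M ≅ ((T' ⋙ hZero B).rightDerived n).obj M) := by
  have h := isIso_homologyMap_cycMap τ (fun q => hT _ (R.injective q))
    (fun q => hT' _ (R.injective q)) hτ n 0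
  let e : ∀ (U : A ⥤ CochainComplex B ℕ), U ⋙ hZero B ≅ cycComp U 0 := fun U =>
    NatIso.ofComponents (fun a => (U.obj a).isoHomologyπ₀.symm) fun f =>
      CochainComplex.isoHomologyπ₀_inv_naturality (U.map f) 
  exact ⟨R.isoRightDerivedObj (T ⋙ hZero B) n ≪≫
    (HomologicalComplex.homologyFunctor B _ n).mapIso
      ((NatIso.mapHomologicalComplex (e T) _).app R.cocomplex) ≪≫
    @asIso _ _ _ _ _ h ≪≫
    (HomologicalComplex.homologyFunctor B _ n).mapIso
      ((NatIso.mapHomologicalComplex (e T') _).app R.cocomplex).symm ≪≫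
    (R.isoRightDerivedObj (T' ⋙ hZero B) n).symm⟩

end Groth.Agent.SpecSeq
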